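import Cfsg.Agent.H33.IM
import Cfsg.Agent.H419.Count_m3
import Cfsg.Agent.S4558
import Cfsg.Agent.H713.Invol
import Cfsg.Agent.FastGrp
import Cfsg.Agent.Prune
set_option linter.all false

section
prune_inst 0x7f00000000000000000000000000000000000000000000000000000000000000000000000000000000000000000000000000000000000000000000000000000000000000000000000000000000000000003ffff7ffffffffffffffffffffffbeffbdefffffff

-- part: H33/Crit
section
set_option linter.all false

/-!
# Elementary criteria for `IM` (helper33)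

* `IM.of_zero` : an irreducible character vanishing at a `p`-element;
* `IM.of_card_centralizer_lt` : a `p`-element `x` with `#C_G(x) < k(G)`.
-/

set_option autoImplicit false

open Cfsg

namespace Cfsg.Agent.H33

open Cfsg.Agent.Characters.Core

universe u

variable {p : ℕ} [hp : Fact p.Prime] {G : Type u} [Group G] [Finite G]

end Cfsg.Agent.H33
end

-- part: H227/IMPairsP
section
set_option linter.all false
open scoped Cfsg.Agent.FastGrp

/-!
# A sharp pair count for the Itô-Michler theorem (helper227)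

* `sq_dvd_of_not_IM` : if no irreducible character has degree divisible by `p` and `P` is a Sylow
  `p`-subgroup then `|P|^2` divides `N * |C(s)| * |C(t)|`, `N` the number of pairs
  `(a, b)`, `a ~ s`, `b ~ t`, with product in `P`.
* `numInv t z` : the number of conjugates `g` of `t` with `g z g⁻¹ = z⁻¹`.
* `sq_dvd_of_not_IM_involution` : for an involution `t` and `p` odd:
  `|P|^2` divides `(∑ z ∈ P, numInv t z) * |C(t)|^2`.
-/

set_option autoImplicit false
set_option linter.unusedSectionVars false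

open Cfsg

namespace Cfsg.Agent.H227.IMPairsP

open Cfsg.Agent.Characters.Core Cfsg.Agent.Blocks.Basic Cfsg.Agent.H33
open scoped ComplexConjugate

universe u

variable {G : Type u} [Group G] [Finite G] {p : ℕ} [hp : Fact p.Prime]

/-- The number of pairs `(a, b)`, `a ~ s`, `b ~ t`, with product `z`. -/
noncomputable def numPairs (s t z : G) : ℕ :=
  Nat.card {q : G × G // IsConj s q.1 ∧ IsConj t q.2 ∧ q.1 * q.2 = z}

theorem sq_dvd_of_not_IM (h : ¬ IM p G) (P : Sylow p G) [Fintype (P : Subgroup G)] (s t : G) :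
    Nat.card (P : Subgroup G) ^ 2 ∣ (∑ z : (P : Subgroup G), numPairs s t (z : G)) *
      (Nat.card (Subgroup.centralizer ({s} : Set G)) *
        Nat.card (Subgroup.centralizer ({t} : Set G))) := by
  classical
  have := Fintype.ofFinite G
  have : Finite (IrrCharacter G) := finite_irr
  have := Fintype.ofFinite (IrrCharacter G)
  rw [not_IM_iff] at h
  choose n hn using fun χ : IrrCharacter G =>
    H665.DefZero.exists_sum_subgroup (isIrr_isCharacter χ.2) (P : Subgroup G)
  set I : ℕ := (Subgroup.centralizer ({s} : Set G)).index with hI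
  set J : ℕ := (Subgroup.centralizer ({t} : Set G)).index with hJ
  set c : ℕ := Nat.card (Subgroup.centralizer ({s} : Set G)) with hc
  set d : ℕ := Nat.card (Subgroup.centralizer ({t} : Set G)) with hd
  set M : ℕ := (P : Subgroup G).index with hMdef
  set q : ℕ := Nat.card (P : Subgroup G) with hq
  have hcI : (c : ℂ) * I = Nat.card G := by
    exact_mod_cast (Subgroup.centralizer ({s} : Set G)).card_mul_index
  have hdJ : (d : ℂ) * J = Nat.card G := by
    exact_mod_cast (Subgroup.centralizer ({t} : Set G)).card_mul_index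
  have hqM : (q : ℂ) * M = Nat.card G := by
    exact_mod_cast (P : Subgroup G).card_mul_index
  set N : ℕ := ∑ z : (P : Subgroup G), numPairs s t (z : G) with hN
  have hG0 : (Nat.card G : ℂ) ≠ 0 := card_ne_zero_complex
  set T : ℂ := ∑ χ : IrrCharacter G, (χ : G → ℂ) s * (χ : G → ℂ) t * n χ / (χ : G → ℂ) 1 with hT
  have h1 : (N : ℂ) = (I : ℂ) * J / (Nat.card G : ℂ) * ((q : ℂ) * T) := by
    rw [hN, Nat.cast_sum]
    unfold numPairs
    simp only [Cfsg.Agent.Characters.ClassMul.card_class_mul]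
    rw [← Finset.mul_sum, ← hI, ← hJ]
    congr 1
    rw [Finset.sum_comm, hT, Finset.mul_sum]
    refine Finset.sum_congr rfl fun χ _ => ?_
    have h2 : ∀ z : (P : Subgroup G), (χ : G → ℂ) s * (χ : G → ℂ) t * conj ((χ : G → ℂ) (z : G)) /
        (χ : G → ℂ) 1 = ((χ : G → ℂ) s * (χ : G → ℂ) t / (χ : G → ℂ) 1) *
        conj ((χ : G → ℂ) (z : G)) := by
      intro z; ring
    rw [Finset.sum_congr rfl fun z _ => h2 z, ← Finset.mul_sum, hn χ]
    ring
  have hMp : ¬ p ∣ M := P.not_dvd_index
  obtain ⟨a, ha⟩ := IsPGroup.iff_card.1 P.isPGroup'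
  have hdeg : ∀ χ : IrrCharacter G, charDegree (χ : G → ℂ) ∣ M := by
    intro χ
    have h2 := Cfsg.Agent.Blocks.Knorr.charDegree_dvd χ.2
    rw [← (P : Subgroup G).card_mul_index, ha] at h2
    have h3 : Nat.Coprime (charDegree (χ : G → ℂ)) (p ^ a) :=
      Nat.Coprime.pow_right a (((Nat.Prime.coprime_iff_not_dvd hp.out).2 (h χ)).symm)
    exact h3.dvd_of_dvd_mul_left h2
  choose k hk using hdeg
  have hint : IsIntegral ℤ ((M : ℂ) * T) := by
    rw [hT, Finset.mul_sum]
    refine IsIntegral.sum _ fun χ _ => ?_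
    have h2 : (χ : G → ℂ) 1 ≠ 0 := isIrr_apply_one_ne_zero χ.2
    have h3 : (M : ℂ) * ((χ : G → ℂ) s * (χ : G → ℂ) t * n χ / (χ : G → ℂ) 1) =
        (k χ : ℂ) * ((χ : G → ℂ) s * (χ : G → ℂ) t * n χ) := by
      rw [hk χ]
      push_cast
      rw [← irr_one_eq_charDegree χ.2]
      field_simp
    rw [h3]
    have h4 : ∀ n : ℕ, IsIntegral ℤ (n : ℂ) := fun n => by
      have := isIntegral_algebraMap (R := ℤ) (A := ℂ) (x := (n : ℤ))
      simpa using this
    exact (h4 _).mul (((Cfsg.Agent.H665.DefZero.isIntegral_char (isIrr_isCharacter χ.2) s).mul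
      (Cfsg.Agent.H665.DefZero.isIntegral_char (isIrr_isCharacter χ.2) t)).mul (h4 _))
  have hq0 : (q : ℂ) ≠ 0 := by
    rw [hq]; exact_mod_cast Nat.card_pos.ne'
  have hval : (M : ℂ) * T = algebraMap ℚ ℂ (((N * (c * d) : ℕ) : ℚ) / (q : ℚ) ^ 2) := by
    have h5 : (N : ℂ) * ((c : ℂ) * d) = (q : ℂ) ^ 2 * (M * T) := by
      have h6 : (N : ℂ) * (Nat.card G : ℂ) = I * J * (q * T) := by
        rw [h1]; field_simp
      have h7 : (N : ℂ) * ((c : ℂ) * d) * (Nat.card G : ℂ) = (q : ℂ) ^ 2 * (M * T) * (Nat.card G : ℂ) := by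
        calc (N : ℂ) * ((c : ℂ) * d) * (Nat.card G : ℂ) = (c * I) * (d * J) * (q * T) := by
              rw [show (N : ℂ) * ((c : ℂ) * d) * (Nat.card G : ℂ) = (c * d) * (N * (Nat.card G : ℂ)) by ring, h6]
              ring
          _ = (Nat.card G : ℂ) * (Nat.card G : ℂ) * (q * T) := by rw [hcI, hdJ]
          _ = (q : ℂ) ^ 2 * (M * T) * (Nat.card G : ℂ) := by
              nth_rewrite 1 [← hqM]; ring
      exact mul_right_cancel₀ hG0 h7
    push_cast
    rw [h5]
    field_simp
  rw [hval] at hint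
  have h5 : IsIntegral ℤ (((N * (c * d) : ℕ) : ℚ) / (q : ℚ) ^ 2) :=
    (isIntegral_algebraMap_iff (algebraMap ℚ ℂ).injective).1 hint
  obtain ⟨j, hj⟩ := IsIntegrallyClosed.isIntegral_iff.1 h5
  have hq0' : (q : ℚ) ≠ 0 := by
    rw [hq]; exact_mod_cast Nat.card_pos.ne'
  have h6 : ((N * (c * d) : ℕ) : ℚ) = (j : ℚ) * (q : ℚ) ^ 2 := by
    have : (j : ℚ) = ((N * (c * d) : ℕ) : ℚ) / (q : ℚ) ^ 2 := hj
    rw [this]; field_simp
  have h7 : ((N * (c * d) : ℕ) : ℤ) = j * (q : ℤ) ^ 2 := by exact_mod_cast h6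
  have h8 : ((q ^ 2 : ℕ) : ℤ) ∣ ((N * (c * d) : ℕ) : ℤ) := ⟨j, by rw [h7]; push_cast; ring⟩
  exact_mod_cast h8

/-! ### Involutions -/

/-- The number of conjugates of `t` which invert `z`. -/
noncomputable def numInv (t z : G) : ℕ := Nat.card {g : G // IsConj t g ∧ g * z * g⁻¹ = z⁻¹}

theorem sq_of_isConj {t g : G} (ht : t * t = 1) (h : IsConj t g) : g * g = 1 := by
  obtain ⟨d, rfl⟩ := isConj_iff.1 h
  calc d * t * d⁻¹ * (d * t * d⁻¹) = d * (t * t) * d⁻¹ := by group
    _ = 1 := by rw [ht]; group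

/-- `z` of odd order: the pairs of conjugates of the involution `t` with product `z` are the
conjugates inverting `z`. -/
theorem numPairs_eq {t z : G} (ht : t * t = 1) (hz : Odd (orderOf z)) :
    numPairs t t z = numInv t z := by
  unfold numPairs numInv
  refine Nat.card_congr
    { toFun := fun q => ⟨q.1.1, q.2.1, ?_⟩
      invFun := fun g => ⟨(g.1, g.1 * z), g.2.1, ?_, ?_⟩
      left_inv := ?_
      right_inv := fun g => rfl }
  · obtain ⟨⟨g, h⟩, h1, h2, h3⟩ := q
    simp only at h1 h2 h3 ⊢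
    have hg' : g⁻¹ = g := inv_eq_of_mul_eq_one_left (sq_of_isConj ht h1)
    have hh' : h⁻¹ = h := inv_eq_of_mul_eq_one_left (sq_of_isConj ht h2)
    rw [← h3, mul_inv_rev, hg', hh']
    calc g * (g * h) * g = (g * g) * h * g := by group
      _ = h * g := by rw [sq_of_isConj ht h1, one_mul]
  · obtain ⟨g, h1, h2⟩ := g
    simp only
    have hgg := sq_of_isConj ht h1
    have hg' : g⁻¹ = g := inv_eq_of_mul_eq_one_left hgg
    have h5 : (g * z) * (g * z) = 1 := by
      calc (g * z) * (g * z) = (g * z * g⁻¹) * (g * g) * z := by group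
        _ = 1 := by rw [h2, hgg]; group
    have h6 : g * (g * z) = z := by rw [← mul_assoc, hgg, one_mul]
    refine h1.trans (Cfsg.Agent.H665.OddCent.isConj_of_odd hgg h5 ?_)
    rwa [h6]
  · obtain ⟨g, h1, h2⟩ := g
    simp only
    rw [← mul_assoc, sq_of_isConj ht h1, one_mul]
  · rintro ⟨⟨g, h⟩, h1, h2, h3⟩
    simp only at h1 h2 h3 ⊢
    have : g * z = h := by rw [← h3, ← mul_assoc, sq_of_isConj ht h1, one_mul]
    simp only [this]

theorem numInv_one {t : G} : numInv t (1 : G) = (Subgroup.centralizer ({t} : Set G)).index := by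
  unfold numInv
  rw [Cfsg.Agent.Blocks.Basic.index_centralizer_eq_ncard, ← Nat.card_coe_set_eq]
  refine Nat.card_congr (Equiv.subtypeEquivRight fun g => ?_)
  constructor
  · exact fun h => h.1
  · exact fun h => ⟨h, by simp⟩

theorem sq_dvd_of_not_IM_involution (hp2 : p ≠ 2) (h : ¬ IM p G) (P : Sylow p G)
    [Fintype (P : Subgroup G)] {t : G} (ht : t * t = 1) :
    Nat.card (P : Subgroup G) ^ 2 ∣ (∑ z : (P : Subgroup G), numInv t (z : G)) *
      Nat.card (Subgroup.centralizer ({t} : Set G)) ^ 2 := by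
  have h1 := sq_dvd_of_not_IM h P t t
  rw [← pow_two] at h1
  convert h1 using 3
  refine (numPairs_eq ht ?_).symm
  obtain ⟨k, hk⟩ := IsPGroup.iff_orderOf.1 P.isPGroup' ‹_›
  rw [← Subgroup.orderOf_coe] at hk
  rw [hk]
  exact (hp.out.odd_of_ne_two hp2).pow

/-- The same for a subgroup which is a Sylow subgroup. -/
theorem sq_dvd_of_not_IM_involution' (hp2 : p ≠ 2) (h : ¬ IM p G) (Q : Subgroup G) [Fintype Q]
    (hQ : ∃ P : Sylow p G, (P : Subgroup G) = Q) {t : G} (ht : t * t = 1) :
    Nat.card Q ^ 2 ∣ (∑ z : Q, numInv t (z : G)) *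
      Nat.card (Subgroup.centralizer ({t} : Set G)) ^ 2 := by
  obtain ⟨P, rfl⟩ := hQ
  exact sq_dvd_of_not_IM_involution hp2 h P ht

end Cfsg.Agent.H227.IMPairsP
end

-- part: H227/IMConst
section
set_option linter.all false
open scoped Cfsg.Agent.FastGrp

/-!
# Class structure constants and the Itô-Michler theorem (helper227)

If no irreducible character of `G` has degree divisible by `p` then for all `s`, `t`, `z` the `p`-part of `|G|`
divides `a * |C(s)| * |C(t)|`, where `a` is the number of pairs `(x, y)`, `x ~ s`, `y ~ t`, `x y = z`.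

* `dvd_of_not_IM`
* `dvd_numInv_of_not_IM` : `t` an involution, `z` of odd order, `a` the number of conjugates of `t` inverting `z`;
* `IM_of_numInv`, `IM_of_odd_centralizer` : the criteria.
-/

set_option autoImplicit false
set_option linter.unusedSectionVars false

open Cfsg

namespace Cfsg.Agent.H227.IMPairsP

open Cfsg.Agent.Characters.Core Cfsg.Agent.Blocks.Basic Cfsg.Agent.H33
open scoped ComplexConjugate

universe u

variable {G : Type u} [Group G] [Finite G] {p : ℕ} [hp : Fact p.Prime]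

theorem dvd_of_not_IM (h : ¬ IM p G) (s t z : G) :
    p ^ (Nat.card G).factorization p ∣ numPairs s t z *
      (Nat.card (Subgroup.centralizer ({s} : Set G)) * Nat.card (Subgroup.centralizer ({t} : Set G))) := by
  classical
  have := Fintype.ofFinite G
  have : Finite (IrrCharacter G) := finite_irr
  have := Fintype.ofFinite (IrrCharacter G)
  rw [not_IM_iff] at h
  obtain ⟨P⟩ : Nonempty (Sylow p G) := inferInstance
  set I : ℕ := (Subgroup.centralizer ({s} : Set G)).index with hI
  set J : ℕ := (Subgroup.centralizer ({t} : Set G)).index with hJ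
  set c : ℕ := Nat.card (Subgroup.centralizer ({s} : Set G)) with hc
  set d : ℕ := Nat.card (Subgroup.centralizer ({t} : Set G)) with hd
  set M : ℕ := (P : Subgroup G).index with hMdef
  set q : ℕ := Nat.card (P : Subgroup G) with hq
  have hcI : (c : ℂ) * I = Nat.card G := by
    exact_mod_cast (Subgroup.centralizer ({s} : Set G)).card_mul_index
  have hdJ : (d : ℂ) * J = Nat.card G := by
    exact_mod_cast (Subgroup.centralizer ({t} : Set G)).card_mul_index
  have hqM' : q * M = Nat.card G := (P : Subgroup G).card_mul_index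
  have hqM : (q : ℂ) * M = Nat.card G := by exact_mod_cast hqM'
  set N : ℕ := numPairs s t z with hN
  have hG0 : (Nat.card G : ℂ) ≠ 0 := card_ne_zero_complex
  set T : ℂ := ∑ χ : IrrCharacter G, (χ : G → ℂ) s * (χ : G → ℂ) t * conj ((χ : G → ℂ) z) / (χ : G → ℂ) 1 with hT
  have h1 : (N : ℂ) = (I : ℂ) * J / (Nat.card G : ℂ) * T := by
    rw [hN]
    unfold numPairs
    rw [Cfsg.Agent.Characters.ClassMul.card_class_mul]
  obtain ⟨a, ha⟩ := IsPGroup.iff_card.1 P.isPGroup'
  have hdeg : ∀ χ : IrrCharacter G, charDegree (χ : G → ℂ) ∣ M := by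
    intro χ
    have h2 := Cfsg.Agent.Blocks.Knorr.charDegree_dvd χ.2
    rw [← (P : Subgroup G).card_mul_index, ha] at h2
    have h3 : Nat.Coprime (charDegree (χ : G → ℂ)) (p ^ a) :=
      Nat.Coprime.pow_right a (((Nat.Prime.coprime_iff_not_dvd hp.out).2 (h χ)).symm)
    exact h3.dvd_of_dvd_mul_left h2
  choose k hk using hdeg
  have hint : IsIntegral ℤ ((M : ℂ) * T) := by
    rw [hT, Finset.mul_sum]
    refine IsIntegral.sum _ fun χ _ => ?_
    have h2 : (χ : G → ℂ) 1 ≠ 0 := isIrr_apply_one_ne_zero χ.2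
    have h3 : (M : ℂ) * ((χ : G → ℂ) s * (χ : G → ℂ) t * conj ((χ : G → ℂ) z) / (χ : G → ℂ) 1) =
        (k χ : ℂ) * ((χ : G → ℂ) s * (χ : G → ℂ) t * conj ((χ : G → ℂ) z)) := by
      rw [hk χ]
      push_cast
      rw [← irr_one_eq_charDegree χ.2]
      field_simp
    rw [h3]
    have h4 : ∀ n : ℕ, IsIntegral ℤ (n : ℂ) := fun n => by
      have := isIntegral_algebraMap (R := ℤ) (A := ℂ) (x := (n : ℤ))
      simpa using this
    refine (h4 _).mul (((Cfsg.Agent.H665.DefZero.isIntegral_char (isIrr_isCharacter χ.2) s).mul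
      (Cfsg.Agent.H665.DefZero.isIntegral_char (isIrr_isCharacter χ.2) t)).mul ?_)
    exact (Cfsg.Agent.H665.DefZero.isIntegral_char (isIrr_isCharacter χ.2) z).map (starRingEnd ℂ).toIntAlgHom
  have hq0 : (q : ℂ) ≠ 0 := by
    rw [hq]; exact_mod_cast Nat.card_pos.ne'
  have hval : (M : ℂ) * T = algebraMap ℚ ℂ (((N * (c * d) : ℕ) : ℚ) / (q : ℚ)) := by
    have h5 : (N : ℂ) * ((c : ℂ) * d) = (q : ℂ) * (M * T) := by
      have h6 : (N : ℂ) * (Nat.card G : ℂ) = I * J * T := by
        rw [h1]; field_simp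
      have h7 : (N : ℂ) * ((c : ℂ) * d) * (Nat.card G : ℂ) = (q : ℂ) * (M * T) * (Nat.card G : ℂ) := by
        calc (N : ℂ) * ((c : ℂ) * d) * (Nat.card G : ℂ) = (c * I) * (d * J) * T := by
              rw [show (N : ℂ) * ((c : ℂ) * d) * (Nat.card G : ℂ) = (c * d) * (N * (Nat.card G : ℂ)) by ring, h6]
              ring
          _ = (Nat.card G : ℂ) * (Nat.card G : ℂ) * T := by rw [hcI, hdJ]
          _ = (q : ℂ) * (M * T) * (Nat.card G : ℂ) := by
              nth_rewrite 1 [← hqM]; ring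
      exact mul_right_cancel₀ hG0 h7
    push_cast
    rw [h5]
    field_simp
  rw [hval] at hint
  have h5 : IsIntegral ℤ (((N * (c * d) : ℕ) : ℚ) / (q : ℚ)) :=
    (isIntegral_algebraMap_iff (algebraMap ℚ ℂ).injective).1 hint
  obtain ⟨j, hj⟩ := IsIntegrallyClosed.isIntegral_iff.1 h5
  have hq0' : (q : ℚ) ≠ 0 := by
    rw [hq]; exact_mod_cast Nat.card_pos.ne'
  have h6 : ((N * (c * d) : ℕ) : ℚ) = (j : ℚ) * (q : ℚ) := by
    have : (j : ℚ) = ((N * (c * d) : ℕ) : ℚ) / (q : ℚ) := hj
    rw [this]; field_simp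
  have h7 : ((N * (c * d) : ℕ) : ℤ) = j * (q : ℤ) := by exact_mod_cast h6
  have h8 : ((q : ℕ) : ℤ) ∣ ((N * (c * d) : ℕ) : ℤ) := ⟨j, by rw [h7]; ring⟩
  have h9 : q = p ^ (Nat.card G).factorization p := by
    rw [hq, P.card_eq_multiplicity]
  rw [← h9]
  exact_mod_cast h8

/-- `t` an involution, `z` of odd order. -/
theorem dvd_numInv_of_not_IM (h : ¬ IM p G) {t z : G} (ht : t * t = 1) (hz : Odd (orderOf z)) :
    p ^ (Nat.card G).factorization p ∣ numInv t z *
      Nat.card (Subgroup.centralizer ({t} : Set G)) ^ 2 := by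
  have h1 := dvd_of_not_IM h t t z
  rwa [← pow_two, numPairs_eq ht hz] at h1

/-- **The criterion**: `t` an involution, `z` of odd order, `|G|_p` does not divide `I * |C(t)|²`, `I` the number of
conjugates of `t` which invert `z`. -/
theorem IM_of_numInv {t z : G} (ht : t * t = 1) (hz : Odd (orderOf z))
    (h : ¬ p ^ (Nat.card G).factorization p ∣ numInv t z *
      Nat.card (Subgroup.centralizer ({t} : Set G)) ^ 2) : IM p G := by
  by_contra hno
  exact h (dvd_numInv_of_not_IM hno ht hz)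

/-- **The criterion for odd centralizers**: the involution `t` inverts `z`, `|C(z)|` is odd and `|G|_p` does not divide
`|C(z)| * |C(t)|²`. -/
theorem IM_of_odd_centralizer {t z : G} (ht : orderOf t = 2) (htz : t * z * t⁻¹ = z⁻¹)
    (hodd : Odd (Nat.card (Subgroup.centralizer ({z} : Set G))))
    (h : ¬ p ^ (Nat.card G).factorization p ∣ Nat.card (Subgroup.centralizer ({z} : Set G)) *
      Nat.card (Subgroup.centralizer ({t} : Set G)) ^ 2) : IM p G := by
  have hcard := Cfsg.Agent.H713.card_inverting hodd ht htz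
  have hI : Nat.card {g : G // IsConj t g ∧ g * z * g⁻¹ = z⁻¹} = numInv t z := rfl
  rw [hI] at hcard
  refine IM_of_numInv (Cfsg.Agent.H713.orderOf_two ht).1 (z := z) ?_ fun h1 => h (h1.trans ?_)
  · have h2 : z ∈ Subgroup.centralizer ({z} : Set G) := Subgroup.mem_centralizer_singleton_iff.2 rfl
    refine hodd.of_dvd_nat ?_
    rw [← Subgroup.orderOf_mk z h2]
    exact orderOf_dvd_natCard _
  · exact Nat.mul_dvd_mul_right (Dvd.intro _ hcard) _

end Cfsg.Agent.H227.IMPairsP
end
end
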