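import Cfsg.Agent.H870.IMLocal
import Cfsg.Agent.H723.Spor.Th
import Cfsg.Agent.H661.SporTh
import Cfsg.Agent.H665.EvenDegree
import Cfsg.Agent.FastGrp
import Cfsg.Agent.Prune
set_option linter.all false
prune_inst 0x7f00000000000000000000000000000000000000000000000000000000000000000000000000000000000000000000000000000000000000000000000000000000000000000000000000000000000000003fffffffffffffffffffffffffffbeffbdffffffff
open scoped Cfsg.Agent.FastGrp

/-!
# Itô-Michler for the Thompson group, I: `p = 2, 7, 31` (helper227)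

* `IM.of_hasDZ` : a character of defect zero;
* `IM_two_of_real` : a real element with centralizer of odd order;
* `im_two`, `im_thirtyone`, `im_seven` : the primes 2, 31, 7 for `Spor.Th`.
-/

set_option autoImplicit false

open Cfsg

namespace Cfsg.Agent.H227.IMTh

open Cfsg.Agent.H33 Cfsg.Agent.Blocks.Basic Cfsg.Agent.H665.NoPQ

universe u

theorem IM_of_hasDZ {p : ℕ} [hp : Fact p.Prime] {G : Type u} [Group G] [Finite G]
    (h : HasDZ p G) (hd : p ∣ Nat.card G) : IM p G := by
  obtain ⟨χ, hχ⟩ := h
  refine ⟨χ, ?_⟩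
  have h1 : 1 ≤ (Nat.card G).factorization p :=
    (hp.out.dvd_iff_one_le_factorization Nat.card_pos.ne').1 hd
  rw [← hχ] at h1
  exact (hp.out.dvd_iff_one_le_factorization (charDegree_pos χ.2).ne').2 h1

theorem IM_two_of_real {G : Type u} [Group G] [Finite G] {x : G} (hx : x ≠ 1)
    (hreal : IsConj x x⁻¹) (hodd : Odd (Nat.card (Subgroup.centralizer ({x} : Set G)))) :
    IM 2 G := by
  obtain ⟨χ, hχ⟩ := Cfsg.Agent.H665.EvenDegree.exists_even_degree hx hreal hodd
  exact ⟨χ, even_iff_two_dvd.1 hχ⟩

/-- If `p` does not divide the orders of the centralizers of the involutions, the centralizers of the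
elements of order `p` have odd order. -/
theorem odd_centralizer {G : Type u} [Group G] [Finite G] {p : ℕ}
    (h : ∀ u : G, orderOf u = 2 → ¬ p ∣ Nat.card (Subgroup.centralizer ({u} : Set G)))
    {x : G} (hx : orderOf x = p) : Odd (Nat.card (Subgroup.centralizer ({x} : Set G))) := by
  by_contra hodd
  rw [Nat.not_odd_iff_even, even_iff_two_dvd] at hodd
  have : Fact (Nat.Prime 2) := ⟨Nat.prime_two⟩
  obtain ⟨⟨u, hu⟩, hu2⟩ := exists_prime_orderOf_dvd_card' 2 hodd
  rw [Subgroup.orderOf_mk] at hu2
  apply h u hu2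
  have h1 : x ∈ Subgroup.centralizer ({u} : Set G) := by
    rw [Subgroup.mem_centralizer_singleton_iff] at hu ⊢
    exact hu.symm
  rw [← hx, ← Subgroup.orderOf_mk x h1]
  exact orderOf_dvd_natCard _

section Th

open Cfsg.Agent.H723.Spor.Th

theorem fin_th : Finite Spor.Th := Nat.finite_of_card_ne_zero (by rw [card_th]; norm_num)

theorem card_inv (u : Spor.Th) (hu : orderOf u = 2) :
    Nat.card (Subgroup.centralizer ({u} : Set Spor.Th)) = 92897280 :=
  Cfsg.Agent.MonsterX.ThOneClass.card_centralizer hu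

theorem im_two : IM 2 Spor.Th := by
  have := fin_th
  have : Fact (Nat.Prime 13) := ⟨by norm_num⟩
  obtain ⟨x, hx, hr⟩ := Cfsg.Agent.H661.Spor.Th.hasReal.isConj
  refine IM_two_of_real (x := x) ?_ hr (odd_centralizer (p := 13) (fun u hu => ?_) hx)
  · rintro rfl
    rw [orderOf_one] at hx
    omega
  · rw [card_inv u hu]
    norm_num

theorem im_thirtyone : IM 31 Spor.Th := by
  have := fin_th
  have : Fact (Nat.Prime 31) := ⟨by norm_num⟩
  exact IM_of_hasDZ hasDZ_31 (by rw [card_th]; norm_num)

/-! ### `p = 7` -/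

/-- A group of order 168 whose involutions have centralizers of order 8 has a character of degree
divisible by 7. -/
theorem im_of_168 {Y : Type u} [Group Y] [Finite Y] (hY : Nat.card Y = 168)
    (h8 : ∀ u : Y, orderOf u = 2 → Nat.card (Subgroup.centralizer ({u} : Set Y)) = 8) : IM 7 Y := by
  have : Fact (Nat.Prime 7) := ⟨by norm_num⟩
  refine IM_of_hasDZ (Cfsg.Agent.H713.hasDZ_of_card (by norm_num)
    (by rw [hY]; exact Cfsg.Agent.H713.factorization_eq_one (by norm_num) (by norm_num))
    (by rw [hY]; norm_num) (m := 8) h8 (by norm_num) ?_) (by rw [hY]; norm_num)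
  intro e a b x t _ _ _ he he2 hb hb2 _ _ h1 h2
  rw [hY] at h1 h2
  have hb1 : b = 1 := by
    have h3 : Nat.Coprime b (2 ^ 3) := Nat.Coprime.pow_right 3 (Nat.coprime_two_right.2 hb2)
    exact Nat.Coprime.eq_one_of_dvd h3 (by norm_num; exact hb)
  subst hb1
  have hem : e = 1 ∨ e = 2 ∨ e = 3 ∨ e = 6 := by
    have h3 : e ≤ 6 := Nat.le_of_dvd (by norm_num) he
    interval_cases e <;> simp_all (config := { decide := true })
  norm_num at h1 h2
  have ha : a % 7 = 3 := by omega
  rw [Nat.mul_mod, ha] at h1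
  rcases hem with rfl | rfl | rfl | rfl <;> revert he2 h1 <;> decide

theorem zpow_cent {G : Type u} [Group G] (x : G) :
    Subgroup.centralizer ((Subgroup.zpowers x : Subgroup G) : Set G) =
      Subgroup.centralizer ({x} : Set G) := by
  ext g
  rw [Subgroup.mem_centralizer_iff, Subgroup.mem_centralizer_singleton_iff]
  constructor
  · intro h1
    exact (h1 x (Subgroup.mem_zpowers x)).symm
  · rintro h1 y ⟨i, rfl⟩
    exact ((show Commute x g from h1.symm).zpow_left i).eq

/-- **T3 for a subgroup of order `p`**: `x` of order `p`, `|C(x)|_p = p^2` and a character of degree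
divisible by `p` of `C(x)`. -/
theorem IM_of_local_prime {p : ℕ} [hp : Fact p.Prime] {G : Type u} [Group G] [Finite G] {x : G}
    (hx : orderOf x = p) (hC : (Nat.card (Subgroup.centralizer ({x} : Set G))).factorization p ≤ 2)
    (hG : p ^ 2 ∣ Nat.card G) (h : IM p (Subgroup.centralizer ({x} : Set G))) : IM p G := by
  rw [← zpow_cent] at hC h
  obtain ⟨θ, hθ⟩ := h
  have hcard : Nat.card (Subgroup.zpowers x) = p := by rw [Nat.card_zpowers, hx]
  refine IM.of_local (p := p) (Subgroup.zpowers x) (IsPGroup.of_card (n := 1) (by rw [hcard, pow_one]))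
    ?_ θ ?_ ?_
  · have h1 := (Subgroup.zpowers x).card_mul_index
    rw [hcard] at h1
    rw [← h1, pow_two] at hG
    exact Nat.dvd_of_mul_dvd_mul_left hp.out.pos hG
  · have h1 : 1 ≤ (charDegree (θ : Subgroup.centralizer ((Subgroup.zpowers x : Subgroup G) : Set G) → ℂ)).factorization p :=
      (hp.out.dvd_iff_one_le_factorization (charDegree_pos θ.2).ne').1 hθ
    have h2 : Subgroup.zpowers x ⊓ Subgroup.centralizer ((Subgroup.zpowers x : Subgroup G) : Set G) =
        Subgroup.zpowers x := by
      rw [inf_eq_left, zpow_cent, Subgroup.zpowers_le, Subgroup.mem_centralizer_singleton_iff]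
    rw [h2, hcard, hp.out.factorization_self]
    omega
  · rintro g hg ⟨k, hk⟩
    refine Subgroup.mem_sup_right ?_
    rw [zpow_cent, Subgroup.mem_centralizer_singleton_iff]
    -- `g` acts on `⟨x⟩` as an element of order dividing `p - 1`
    have hmem : g * x * g⁻¹ ∈ Subgroup.zpowers x := (Subgroup.mem_normalizer_iff.mp hg x).mp (Subgroup.mem_zpowers x)
    obtain ⟨m, hm⟩ := Subgroup.mem_zpowers_iff.1 hmem
    have hxp : x ^ (p : ℤ) = 1 := by rw [zpow_natCast, ← hx, pow_orderOf_eq_one]
    have hmd : ∀ a b : ℤ, ((a : ZMod p) = (b : ZMod p)) → x ^ a = x ^ b := by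
      intro a b hab
      rw [ZMod.intCast_eq_intCast_iff_dvd_sub] at hab
      obtain ⟨c, hc⟩ := hab
      have : b = a + p * c := by rw [← hc]; ring
      rw [this, zpow_add, zpow_mul, hxp, one_zpow, mul_one]
    have hpow : ∀ n : ℕ, g ^ n * x * (g ^ n)⁻¹ = x ^ (m ^ n) := by
      intro n
      induction n with
      | zero => simp
      | succ n ih =>
        calc g ^ (n + 1) * x * (g ^ (n + 1))⁻¹ = g * (g ^ n * x * (g ^ n)⁻¹) * g⁻¹ := by
              rw [pow_succ' g n]; group
          _ = g * x ^ (m ^ n) * g⁻¹ := by rw [ih]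
          _ = (g * x * g⁻¹) ^ (m ^ n) := by rw [conj_zpow]
          _ = x ^ (m ^ (n + 1)) := by rw [← hm, ← zpow_mul, pow_succ']
    have h1 := hpow (p ^ k)
    rw [← hk, pow_orderOf_eq_one] at h1
    have h2 : ((m ^ (p ^ k) : ℤ) : ZMod p) = (m : ZMod p) := by
      push_cast
      exact ZMod.pow_card_pow _
    rw [hk, hmd _ _ h2, hm] at h1
    have h3 : x = g * x * g⁻¹ := by simpa using h1
    exact (mul_inv_eq_iff_eq_mul.1 h3.symm)

theorem im_seven : IM 7 Spor.Th := by
  have hfin := fin_th
  have : Fact (Nat.Prime 7) := ⟨by norm_num⟩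
  have h := setup Cfsg.Agent.KFacts.Th.Main.ctx hone
  set s := Cfsg.Agent.Th.IndexUpper.gTh 6 with hs
  have h7 : orderOf s = 7 := h.s7
  -- the order of the centralizer
  have h49 : 49 ∣ Nat.card (Subgroup.centralizer ({s} : Set Spor.Th)) := by
    obtain ⟨P, hP⟩ := (IsPGroup.of_card (n := 1) (by rw [Nat.card_zpowers, h7, pow_one]) :
      IsPGroup 7 (Subgroup.zpowers s)).exists_le_sylow
    have hPc : Nat.card (P : Subgroup Spor.Th) = 7 ^ 2 := by
      rw [P.card_eq_multiplicity, card_th]
      congr 1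
      rw [show (90745943887872000 : ℕ) = 7 ^ 2 * 1851958038528000 by norm_num,
        Nat.factorization_mul (by norm_num) (by norm_num), Nat.Prime.factorization_pow (by norm_num)]
      simp [Nat.factorization_eq_zero_of_not_dvd (show ¬ 7 ∣ 1851958038528000 by decide)]
    have hcm : IsMulCommutative (P : Subgroup Spor.Th) := IsPGroup.isMulCommutative_of_card_eq_prime_sq hPc
    have hle : (P : Subgroup Spor.Th) ≤ Subgroup.centralizer ({s} : Set Spor.Th) := by
      intro x hx
      rw [Subgroup.mem_centralizer_singleton_iff]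
      have h1 := hcm.is_comm.comm (⟨x, hx⟩ : (P : Subgroup Spor.Th)) ⟨s, hP (Subgroup.mem_zpowers s)⟩
      exact congrArg Subtype.val h1
    have h1 := Subgroup.card_dvd_of_le hle
    rw [hPc] at h1
    norm_num at h1
    exact h1
  have h168 : Nat.card (Subgroup.centralizer ({s} : Set Spor.Th)) = 7 * 168 := by
    rcases h.card_cases with h1 | h1
    · exact h1
    · rw [h1] at h49
      norm_num at h49
  refine IM_of_local_prime h7 ?_ (by rw [card_th]; norm_num) ?_
  · rw [h168]
    have h1 : ¬ 3 ≤ (7 * 168).factorization 7 := by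
      intro h1
      have := ((show Nat.Prime 7 by norm_num).pow_dvd_iff_le_factorization (by norm_num)).2 h1
      norm_num at this
    omega
  · refine IM.of_surjective (Cfsg.Agent.ThType.CentSeven.Setup.pr s)
      (Cfsg.Agent.ThType.CentSeven.Setup.pr_surj s) (im_of_168 (h.card_Y h168) fun u hu => ?_)
    exact h.hyp.card_cent u (by rw [← pow_two, ← hu, pow_orderOf_eq_one]) (by
      rintro rfl
      rw [orderOf_one] at hu
      omega)

end Th

end Cfsg.Agent.H227.IMTh
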