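import Cfsg.Agent.ThFive.Abs
import Cfsg.Agent.AschCrit.CommFour.Orbits_m3
import Mathlib.GroupTheory.SpecificGroups.Cyclic
import Cfsg.Agent.H227.IMConst
import Cfsg.Agent.H227.IMThF
import Cfsg.Agent.H227.IMThA
import Cfsg.Agent.H635.SporTh31
import Cfsg.Agent.Lib.NormalAbelian
import Cfsg.Agent.FastGrp
import Cfsg.Agent.Prune
set_option linter.all false

section
prune_inst 0x7f00000000000000000000000000000000000000000000000000000000000000000000000000000000000000000000000000000000000000000000000000000000000000000000000000000000000000003fffffffffffffffffffffffffffbeffbdffffffff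

-- part: H227/IMThH
section
set_option linter.all false
open scoped Cfsg.Agent.FastGrp

/-!
# The centralizer of an element of order 5 of the Thompson group, III (helper227)

`N` of order 125, not abelian, `H` of order 3000: `H` is transitive on `N ∖ ⟨z⟩`.
-/

set_option autoImplicit false
set_option linter.unusedSectionVars false

namespace Cfsg.Agent.H227.IMTh.Five

open Subgroup Cfsg
open Cfsg.Agent.ThFive

universe u

section Abs

variable {H : Type u} [Group H] [Finite H] {s z : H} {N : Subgroup H}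

/-- an involution of `H` lies in `N s` -/
theorem invol_mem (h : Core s z 5 N) {u : H} (hu : orderOf u = 2) : u * s ∈ N := by
  have hn := h.normal
  have hss : s * s = 1 := h.toSit.ss
  have hsi : s⁻¹ = s := inv_eq_of_mul_eq_one_right hss
  have huu : u * u = 1 := by rw [← pow_two, ← hu, pow_orderOf_eq_one]
  have h2 : u ∈ N ⊔ centralizer ({s} : Set H) := by rw [h.sup]; exact mem_top u
  obtain ⟨n, hn', c, hc, rfl⟩ := mem_sup_of_normal_left.1 h2
  have hcs : c * s = s * c := mem_centralizer_singleton_iff.1 hc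
  have h3 : c * c ∈ N := by
    have h4 : c * c = (c * (n⁻¹) * c⁻¹) * (c * n * c⁻¹ * (c * c)) := by group
    have h5 : c * n * c⁻¹ * (c * c) = n⁻¹ := by
      have h6 : n * (c * n * c⁻¹ * (c * c)) = 1 := by
        rw [← huu]; group
      exact (inv_eq_of_mul_eq_one_right h6).symm
    rw [h4, h5]
    exact mul_mem (hn.conj_mem _ (inv_mem hn') c) (inv_mem hn')
  have h4 : c * c ∈ zpowers z := h.inf ⟨h3, mem_centralizer_singleton_iff.2 (by
    rw [mul_assoc, hcs, ← mul_assoc, hcs, mul_assoc])⟩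
  have h5 : (c * c) ^ 5 = 1 := h.toSit.c_pow h4
  have h6 : c ^ 5 * c ^ 5 = 1 := by
    rw [← h5, ← pow_two c, ← pow_mul, ← pow_add]
  have h7 : c ^ 5 * s = s * c ^ 5 := (show Commute c s from hcs).pow_left 5
  have : Fact (Nat.Prime 2) := ⟨Nat.prime_two⟩
  -- modulo `N`
  set π := QuotientGroup.mk' N with hπ
  have h8 : π (n * c) = π (c ^ 5) := by
    have h9 : π n = 1 := (QuotientGroup.eq_one_iff n).2 hn'
    have h10 : π c * π c = 1 := by
      rw [← map_mul]
      exact (QuotientGroup.eq_one_iff _).2 h3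
    rw [map_mul, h9, one_mul, map_pow]
    calc π c = π c * (π c * π c) * (π c * π c) := by rw [h10]; group
      _ = π c ^ 5 := by simp only [pow_succ, pow_zero, one_mul, mul_assoc]
  by_cases h9 : c ^ 5 = 1
  · exfalso
    rw [h9, map_one] at h8
    have h10 : n * c ∈ N := (QuotientGroup.eq_one_iff _).1 h8
    have h11 := orderOf_dvd_natCard (⟨n * c, h10⟩ : N)
    rw [Subgroup.orderOf_mk, hu] at h11
    exact (Nat.not_even_iff_odd.2 h.oddN) (even_iff_two_dvd.2 h11)
  · have h10 : c ^ 5 = s := h.toSit.uniq _ (orderOf_eq_prime (by rw [pow_two, h6]) h9) h7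
    rw [h10] at h8
    have h11 : π (n * c * s) = 1 := by rw [map_mul, h8, ← map_mul, hss, map_one]
    exact (QuotientGroup.eq_one_iff _).1 h11

/-- the elements of `N` commuting with an involution are in `⟨z⟩` -/
theorem invol_comm (h : Core s z 5 N) {u n : H} (hu : orderOf u = 2) (hn : n ∈ N) (hc : u * n = n * u) :
    n ∈ zpowers z := by
  have hZ := h.toSit.normalZ
  have hss : s * s = 1 := h.toSit.ss
  obtain ⟨hinv, hcomm⟩ := h.quot
  set π := QuotientGroup.mk' (zpowers z) with hπ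
  have h1 := invol_mem h hu
  have hu' : u = u * s * s := by rw [mul_assoc, hss, mul_one]
  have h2 : π (u * s) * π n = π n * π (u * s) := hcomm _ ⟨_, h1, rfl⟩ _ ⟨_, hn, rfl⟩
  have h3 : π (u * s) * (π s * π n * (π s)⁻¹) = π (u * s) * π n := by
    have h4 : π u * π n = π n * π u := by rw [← map_mul, hc, map_mul]
    rw [h2]
    calc π (u * s) * (π s * π n * (π s)⁻¹) = (π (u * s) * π s) * π n * (π s)⁻¹ := by simp only [mul_assoc]
      _ = π u * π n * (π s)⁻¹ := by rw [← map_mul, ← hu']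
      _ = π n * π u * (π s)⁻¹ := by rw [h4]
      _ = π n * π (u * s) := by
        rw [map_mul, mul_assoc]
        congr 2
        rw [← map_inv, inv_eq_of_mul_eq_one_right hss]
  have h4 := mul_left_cancel h3
  rw [hinv _ ⟨n, hn, rfl⟩] at h4
  have h5 : π n = 1 := by
    refine eq_one_of_sq_odd h.oddN ?_ (show (π n) ^ Nat.card N = 1 by rw [← map_pow, h.pow_card hn, map_one])
    nth_rewrite 2 [← h4]
    exact mul_inv_cancel _
  exact (QuotientGroup.eq_one_iff n).1 h5

/-- `Z(N) = ⟨z⟩` -/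
theorem center_N (h : Core s z 5 N) (hN : Nat.card N = 125) (hna : ∃ a ∈ N, ∃ b ∈ N, a * b ≠ b * a)
    {n : H} (hn : n ∈ N) (hc : ∀ m ∈ N, m * n = n * m) : n ∈ zpowers z := by
  by_contra hnz
  have : Fact (Nat.Prime 5) := ⟨Nat.prime_five⟩
  set Z := center N with hZdef
  have hzZ : (⟨z, h.zN⟩ : N) ∈ Z := mem_center_iff.2 fun g => Subtype.ext (h.toSit.z_comm g)
  have hnZ : (⟨n, hn⟩ : N) ∈ Z := mem_center_iff.2 fun g => Subtype.ext (hc g g.2)
  have hd : Nat.card Z ∣ 5 ^ 3 := by
    have := card_subgroup_dvd_card Z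
    rw [hN] at this
    norm_num
    exact this
  obtain ⟨k, hk3, hk⟩ := (Nat.dvd_prime_pow Nat.prime_five).1 hd
  have hzc : Nat.card (zpowers (⟨z, h.zN⟩ : N)) = 5 := by
    rw [Nat.card_zpowers, Subgroup.orderOf_mk, h.toSit.oz]
  have hlt : 5 < Nat.card Z := by
    rw [← hzc]
    have hle : zpowers (⟨z, h.zN⟩ : N) ≤ Z := zpowers_le.2 hzZ
    refine lt_of_le_of_ne (Nat.le_of_dvd Nat.card_pos (card_dvd_of_le hle)) fun heq => hnz ?_
    have h1 := eq_of_le_of_card_ge hle heq.ge
    rw [← h1] at hnZ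
    obtain ⟨i, hi⟩ := mem_zpowers_iff.1 hnZ
    exact mem_zpowers_iff.2 ⟨i, congrArg Subtype.val hi⟩
  have hk2 : 2 ≤ k := by
    by_contra hk2
    have : k = 0 ∨ k = 1 := by omega
    rcases this with rfl | rfl <;> · rw [hk] at hlt; norm_num at hlt
  have hcyc : IsCyclic (N ⧸ Z) := by
    have h1 := card_eq_card_quotient_mul_card_subgroup Z
    rw [hN, hk] at h1
    have h2 : k = 2 ∨ k = 3 := by omega
    rcases h2 with rfl | rfl
    · exact isCyclic_of_prime_card (p := 5) (by omega)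
    · have h3 : Nat.card (N ⧸ Z) = 1 := by omega
      have := (Nat.card_eq_one_iff_unique.1 h3).1
      exact isCyclic_of_subsingleton
  obtain ⟨a, ha, b, hb, hab⟩ := hna
  apply hab
  have h1 := (MonoidHom.isMulCommutative_of_isCyclic_of_ker_le_center (QuotientGroup.mk' Z)
    (by rw [QuotientGroup.ker_mk'])).is_comm.comm (⟨a, ha⟩ : N) ⟨b, hb⟩
  exact congrArg Subtype.val h1

/-- the elements of `N` commuting with an element of order 3 are in `⟨z⟩` -/
theorem three_comm (h : Core s z 5 N) (hN : Nat.card N = 125) (h9 : ¬ 9 ∣ Nat.card H)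
    (h3 : 3 ∣ Nat.card ↥(centralizer ({s} : Set H))) {k n : H} (hk : orderOf k = 3) (hn : n ∈ N)
    (hc : k * n = n * k) : n ∈ zpowers z := by
  by_contra hnz
  have h3F : Fact (Nat.Prime 3) := ⟨Nat.prime_three⟩
  have h2F : Fact (Nat.Prime 2) := ⟨Nat.prime_two⟩
  have hNn := h.normal
  -- `k` centralizes `N`
  have hfix := card_fix (p := 3) N (x := k) (by rw [← hk, pow_orderOf_eq_one])
  have hd : Nat.card ↥(N ⊓ centralizer ({k} : Set H)) ∣ 5 ^ 3 := by
    have := card_dvd_of_le (inf_le_left : N ⊓ centralizer ({k} : Set H) ≤ N)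
    rw [hN] at this
    norm_num
    exact this
  obtain ⟨f, hf3, hf⟩ := (Nat.dvd_prime_pow Nat.prime_five).1 hd
  have hlt : 5 < Nat.card ↥(N ⊓ centralizer ({k} : Set H)) := by
    have hzc : Nat.card (zpowers z) = 5 := by rw [Nat.card_zpowers, h.toSit.oz]
    rw [← hzc]
    have hle : zpowers z ≤ N ⊓ centralizer ({k} : Set H) :=
      zpowers_le.2 ⟨h.zN, mem_centralizer_singleton_iff.2 (h.toSit.z_comm k).symm⟩
    refine lt_of_le_of_ne (Nat.le_of_dvd Nat.card_pos (card_dvd_of_le hle)) fun heq => hnz ?_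
    rw [eq_of_le_of_card_ge hle heq.ge]
    exact ⟨hn, mem_centralizer_singleton_iff.2 hc.symm⟩
  have hf' : f = 3 := by
    rw [hN, hf] at hfix
    rw [hf] at hlt
    interval_cases f
    · norm_num at hlt
    · norm_num at hlt
    · exact absurd hfix (by decide)
    · rfl
  have hle : N ≤ centralizer ({k} : Set H) := by
    rw [← inf_eq_left]
    exact eq_of_le_of_card_ge inf_le_left (by rw [hf, hN, hf']; norm_num)
  set K := centralizer (N : Set H) with hK
  have hKn : K.Normal := inferInstance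
  have hkK : k ∈ K := by
    rw [hK, mem_centralizer_iff]
    exact fun m hm => mem_centralizer_singleton_iff.1 (hle hm)
  have hodd : Odd (Nat.card K) := by
    rw [← Nat.not_even_iff_odd]
    intro he
    obtain ⟨u, hu⟩ := exists_prime_orderOf_dvd_card' 2 (even_iff_two_dvd.1 he)
    refine hnz (invol_comm h (u := u) (by rw [Subgroup.orderOf_coe, hu]) hn ?_)
    exact (mem_centralizer_iff.1 u.2 n hn).symm
  -- an element of order 3 of `C(s)` in `K`
  obtain ⟨k', hk'⟩ := exists_prime_orderOf_dvd_card' 3 h3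
  have hk'3 : orderOf (k' : H) = 3 := by rw [Subgroup.orderOf_coe, hk']
  have hfac : (Nat.card H).factorization 3 = 1 := by
    have h1 : 3 ∣ Nat.card H := h3.trans (card_subgroup_dvd_card _)
    have h2 := (Nat.prime_three.dvd_iff_one_le_factorization Nat.card_pos.ne').1 h1
    have h4 : ¬ 2 ≤ (Nat.card H).factorization 3 := fun h5 =>
      h9 ((Nat.prime_three.pow_dvd_iff_le_factorization Nat.card_pos.ne').2 h5)
    omega
  let P : Sylow 3 H := Sylow.ofCard (zpowers k) (by rw [Nat.card_zpowers, hk, hfac, pow_one])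
  let P' : Sylow 3 H := Sylow.ofCard (zpowers (k' : H)) (by rw [Nat.card_zpowers, hk'3, hfac, pow_one])
  obtain ⟨g, hg⟩ := MulAction.exists_smul_eq H P P'
  have hk'K : (k' : H) ∈ K := by
    have h1 : (k' : H) ∈ (P' : Subgroup H) := mem_zpowers (k' : H)
    rw [← hg, Sylow.coe_subgroup_smul] at h1
    obtain ⟨y, hy, hy'⟩ := h1
    have h2 : y ∈ K := (zpowers_le.2 hkK) hy
    rw [← hy']
    exact hKn.conj_mem y h2 g
  have h1 : (K.subgroupOf (centralizer ({s} : Set H))).Normal := inferInstance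
  have h2 : Odd (Nat.card ↥(K.subgroupOf (centralizer ({s} : Set H)))) := by
    refine Odd.of_dvd_nat hodd ?_
    have e := (K.subgroupOf (centralizer ({s} : Set H))).equivMapOfInjective (centralizer ({s} : Set H)).subtype
      (centralizer ({s} : Set H)).subtype_injective
    rw [Nat.card_congr e.toEquiv, subgroupOf_map_subtype]
    exact card_dvd_of_le inf_le_left
  have h4 := h.toSit.odd _ h1 h2
  have h5 := orderOf_dvd_natCard (⟨k', mem_subgroupOf.2 hk'K⟩ : ↥(K.subgroupOf (centralizer ({s} : Set H))))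
  rw [Subgroup.orderOf_mk, hk'] at h5
  exact absurd (h5.trans h4) (by norm_num)

/-- `H` is transitive on `N ∖ ⟨z⟩` -/
theorem trans (h : Core s z 5 N) (hN : Nat.card N = 125) (hna : ∃ a ∈ N, ∃ b ∈ N, a * b ≠ b * a)
    (hH : Nat.card H = 3000) (h3 : 3 ∣ Nat.card ↥(centralizer ({s} : Set H))) {n n' : H} (hn : n ∈ N)
    (hnz : n ∉ zpowers z) (hn' : n' ∈ N) (hnz' : n' ∉ zpowers z) : IsConj n n' := by
  classical
  have h5F : Fact (Nat.Prime 5) := ⟨Nat.prime_five⟩
  have h3F : Fact (Nat.Prime 3) := ⟨Nat.prime_three⟩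
  have h2F : Fact (Nat.Prime 2) := ⟨Nat.prime_two⟩
  have := Fintype.ofFinite H
  have hNn := h.normal
  have hZ := h.toSit.normalZ
  -- the centralizer of `n` has order at most 25
  have h2 : ¬ 2 ∣ Nat.card (centralizer ({n} : Set H)) := by
    intro hd
    obtain ⟨u, hu⟩ := exists_prime_orderOf_dvd_card' 2 hd
    exact hnz (invol_comm h (u := u) (by rw [Subgroup.orderOf_coe, hu]) hn
      (mem_centralizer_singleton_iff.1 u.2))
  have h3' : ¬ 3 ∣ Nat.card (centralizer ({n} : Set H)) := by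
    intro hd
    obtain ⟨u, hu⟩ := exists_prime_orderOf_dvd_card' 3 hd
    exact hnz (three_comm h hN (by rw [hH]; norm_num) h3 (k := u) (by rw [Subgroup.orderOf_coe, hu]) hn
      (mem_centralizer_singleton_iff.1 u.2))
  have h4 : Nat.card (centralizer ({n} : Set H)) ∣ 5 ^ 3 := by
    have h5 : Nat.card (centralizer ({n} : Set H)) ∣ 2 ^ 3 * 3 * 5 ^ 3 := by
      rw [show 2 ^ 3 * 3 * 5 ^ 3 = 3000 from by norm_num, ← hH]
      exact card_subgroup_dvd_card (centralizer ({n} : Set H))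
    refine Nat.Coprime.dvd_of_dvd_mul_left (Nat.Coprime.mul_right ?_ ?_) h5
    · exact (((Nat.Prime.coprime_iff_not_dvd (by norm_num)).2 h2).symm).pow_right _
    · exact ((Nat.Prime.coprime_iff_not_dvd (by norm_num)).2 h3').symm
  obtain ⟨f, hf3, hf⟩ := (Nat.dvd_prime_pow Nat.prime_five).1 h4
  have hf' : f ≠ 3 := by
    rintro rfl
    have hfac : (Nat.card H).factorization 5 = 3 := by
      rw [hH, show 3000 = 5 ^ 3 * 24 by norm_num, Nat.factorization_mul (by norm_num) (by norm_num),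
        Nat.Prime.factorization_pow (by norm_num)]
      simp [Nat.factorization_eq_zero_of_not_dvd (show ¬ 5 ∣ 24 by decide)]
    let P : Sylow 5 H := Sylow.ofCard (centralizer ({n} : Set H)) (by rw [hf, hfac])
    let P' : Sylow 5 H := Sylow.ofCard N (by rw [hN, hfac]; norm_num)
    have hPn : (P' : Subgroup H).Normal := hNn
    have hsub := Sylow.unique_of_normal P' hPn
    have h6 : P = P' := Subsingleton.elim _ _
    have h7 : N ≤ centralizer ({n} : Set H) := by
      have h8 : (P : Subgroup H) = (P' : Subgroup H) := congrArg _ h6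
      exact h8.ge
    exact hnz (center_N h hN hna hn fun m hm => mem_centralizer_singleton_iff.1 (h7 hm))
  have hf2 : Nat.card (centralizer ({n} : Set H)) ≤ 25 := by
    rw [hf]
    have : f ≤ 2 := by omega
    calc 5 ^ f ≤ 5 ^ 2 := Nat.pow_le_pow_right (by norm_num) this
      _ = 25 := by norm_num
  -- the class
  set S : Finset H := Finset.univ.filter fun m => IsConj n m with hS
  set T : Finset H := Finset.univ.filter fun m => m ∈ N ∧ m ∉ zpowers z with hT
  have hsub : S ⊆ T := by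
    intro m hm
    rw [hS, Finset.mem_filter] at hm
    obtain ⟨g, rfl⟩ := isConj_iff.1 hm.2
    rw [hT, Finset.mem_filter]
    refine ⟨Finset.mem_univ _, hNn.conj_mem n hn g, fun hm' => hnz ?_⟩
    have h8 := hZ.conj_mem _ hm' g⁻¹
    have h9 : g⁻¹ * (g * n * g⁻¹) * g⁻¹⁻¹ = n := by group
    rwa [h9] at h8
  have hTc : T.card = 120 := by
    have h8 : T = (Finset.univ.filter fun m : H => m ∈ N) \ (Finset.univ.filter fun m : H => m ∈ zpowers z) := by
      ext m
      simp [hT]
    have h9 : (Finset.univ.filter fun m : H => m ∈ zpowers z) ⊆ (Finset.univ.filter fun m : H => m ∈ N) := by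
      intro m hm
      rw [Finset.mem_filter] at hm ⊢
      exact ⟨hm.1, (zpowers_le.2 h.zN) hm.2⟩
    have h10 : (Finset.univ.filter fun m : H => m ∈ N).card = 125 := by
      rw [← hN, Nat.card_eq_fintype_card, Fintype.card_subtype]
    have h11 : (Finset.univ.filter fun m : H => m ∈ zpowers z).card = 5 := by
      rw [← h.toSit.oz, ← Nat.card_zpowers, Nat.card_eq_fintype_card, Fintype.card_subtype]
    rw [h8, Finset.card_sdiff_of_subset h9, h10, h11]
  have hSc : S.card * Nat.card (centralizer ({n} : Set H)) = 3000 := by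
    have h8 : S.card = (centralizer ({n} : Set H)).index := by
      rw [Cfsg.Agent.Blocks.Basic.index_centralizer_eq_ncard, ← Nat.card_coe_set_eq,
        Nat.card_eq_fintype_card, hS, Fintype.card_subtype]
      rfl
    rw [h8, ← hH, mul_comm]
    exact (centralizer ({n} : Set H)).card_mul_index
  have hST : S = T := by
    refine Finset.eq_of_subset_of_card_le hsub ?_
    rw [hTc]
    by_contra hlt
    have h8 : S.card * Nat.card (centralizer ({n} : Set H)) ≤ 119 * 25 := Nat.mul_le_mul (by omega) hf2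
    omega
  have h8 : n' ∈ S := by
    rw [hST, hT, Finset.mem_filter]
    exact ⟨Finset.mem_univ _, hn', hnz'⟩
  rw [hS, Finset.mem_filter] at h8
  exact h8.2

end Abs

end Cfsg.Agent.H227.IMTh.Five
end

-- part: H227/IMThJ
section
set_option linter.all false
open scoped Cfsg.Agent.FastGrp

-- part: H227/IMThI
section
/-!
# Involutions inverting an element of order 5 with `|C(x)| = 3000` (helper227)

`M ≤ C(x)` of order 125, not abelian, `Z(M) = ⟨x⟩`, normalized by the elements inverting `x`; one class of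
involutions. The number of involutions inverting `x` is `25 j` with `j ≤ 24`; it is even if there is an involution
in `C(x)`.
-/

set_option autoImplicit false
set_option linter.unusedSectionVars false

namespace Cfsg.Agent.H227.IMTh.Five

open Subgroup Cfsg
open Cfsg.Agent.AschCrit.OddInv Cfsg.Agent.H227.IMPairsP

universe u

variable {G : Type u} [Group G] [Finite G] {t x : G} {M : Subgroup G}

/-- the hypotheses of the count -/
structure Cnt (t x : G) (M : Subgroup G) : Prop where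
  cardM : Nat.card M = 125
  le : M ≤ centralizer ({x} : Set G)
  mem : x ∈ M
  ord : orderOf x = 5
  na : ∃ a ∈ M, ∃ b ∈ M, a * b ≠ b * a
  nrm : ∀ g : G, g * x * g⁻¹ = x⁻¹ → ∀ m ∈ M, g * m * g⁻¹ ∈ M
  ot : orderOf t = 2
  cls : ∀ u : G, orderOf u = 2 → IsConj t u
  card : Nat.card (centralizer ({x} : Set G)) = 3000

namespace Cnt

variable (h : Cnt t x M)
include h

theorem x_ne : x ≠ 1 := by
  rintro hx
  have := h.ord
  rw [hx, orderOf_one] at this
  norm_num at this

theorem x_sq : x * x ≠ 1 := by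
  intro hx
  have h1 := orderOf_dvd_of_pow_eq_one (show x ^ 2 = 1 by rw [pow_two, hx])
  rw [h.ord] at h1
  norm_num at h1

theorem odd : Odd (Nat.card M) := by rw [h.cardM]; decide

/-- an element inverting `x` with square one is an involution -/
theorem order_two {g : G} (hg : g * x * g⁻¹ = x⁻¹) (hgg : g * g = 1) : orderOf g = 2 := by
  have : Fact (Nat.Prime 2) := ⟨Nat.prime_two⟩
  refine orderOf_eq_prime (by rw [pow_two, hgg]) ?_
  rintro rfl
  apply h.x_sq
  rw [one_mul, inv_one, mul_one] at hg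
  nth_rewrite 1 [hg]
  exact inv_mul_cancel x

theorem card_fixed {g : G} (hg : g * x * g⁻¹ = x⁻¹) (hgg : g * g = 1) :
    Nat.card ↥(M ⊓ centralizer ({g} : Set G)) = 5 := by
  have h5F : Fact (Nat.Prime 5) := ⟨Nat.prime_five⟩
  have hd : Nat.card ↥(M ⊓ centralizer ({g} : Set G)) ∣ 5 ^ 3 := by
    rw [show 5 ^ 3 = Nat.card M by rw [h.cardM]; norm_num]
    exact card_dvd_of_le inf_le_left
  obtain ⟨f, hf3, hf⟩ := (Nat.dvd_prime_pow Nat.prime_five).1 hd
  have hInv : Inv g M := h.nrm g hg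
  have hδ := delta_eq_card_inverted hgg h.odd hInv
  have hcd := card_eq g M
  obtain ⟨a, ha, b, hb, hab⟩ := h.na
  -- `x` does not commute with `g`
  have hxg : ∀ i : ℤ, x ^ i * g = g * x ^ i → x ^ i = 1 := by
    intro i hi
    have h1 : g * x ^ i * g⁻¹ = (x ^ i)⁻¹ := by rw [← conj_zpow, hg, inv_zpow]
    rw [← hi, mul_inv_cancel_right] at h1
    have h2 : x ^ i * x ^ i = 1 := by
      nth_rewrite 2 [h1]
      exact mul_inv_cancel _
    have h3 : orderOf (x ^ i) ∣ 2 := orderOf_dvd_of_pow_eq_one (by rw [pow_two, h2])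
    have h4 : orderOf (x ^ i) ∣ 5 := by
      refine orderOf_dvd_of_pow_eq_one ?_
      have hx5 : x ^ 5 = 1 := by rw [← h.ord, pow_orderOf_eq_one]
      rw [← zpow_natCast, ← zpow_mul, mul_comm, zpow_mul, zpow_natCast, hx5, one_zpow]
    have h5 := Nat.dvd_gcd h3 h4
    norm_num at h5
    exact h5
  have hf0 : f ≠ 0 := by
    rintro rfl
    rw [pow_zero] at hf
    rw [hf, mul_one, hδ] at hcd
    have hall : ∀ m ∈ M, g * m * g⁻¹ = m⁻¹ := by
      have h1 : Function.Surjective (fun m : {m : G // m ∈ M ∧ g * m * g⁻¹ = m⁻¹} => (⟨m.1, m.2.1⟩ : M)) := by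
        have : Function.Bijective (fun m : {m : G // m ∈ M ∧ g * m * g⁻¹ = m⁻¹} => (⟨m.1, m.2.1⟩ : M)) := by
          rw [Nat.bijective_iff_injective_and_card]
          exact ⟨fun m m' hm => Subtype.ext (congrArg (fun y : M => (y : G)) hm), hcd.symm⟩
        exact this.2
      intro m hm
      obtain ⟨m', hm'⟩ := h1 ⟨m, hm⟩
      have h2 : m'.1 = m := congrArg Subtype.val hm'
      rw [← h2]
      exact m'.2.2
    apply hab
    have h1 := hall _ (mul_mem ha hb)
    have h2 : g * (a * b) * g⁻¹ = (g * a * g⁻¹) * (g * b * g⁻¹) := by group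
    rw [h2, hall a ha, hall b hb, mul_inv_rev] at h1
    -- a⁻¹ b⁻¹ = b⁻¹ a⁻¹
    have h3 := congrArg (fun y => y⁻¹) h1
    simp only [mul_inv_rev, inv_inv] at h3
    exact h3.symm
  have hf3' : f ≠ 3 := by
    rintro rfl
    have h1 : M ⊓ centralizer ({g} : Set G) = M := eq_of_le_of_card_ge inf_le_left (by rw [hf, h.cardM]; norm_num)
    have h2 : x ∈ centralizer ({g} : Set G) := (inf_eq_left.1 h1) h.mem
    apply h.x_ne
    have := hxg 1 (by rw [zpow_one]; exact mem_centralizer_singleton_iff.1 h2)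
    rwa [zpow_one] at this
  have hf2 : f ≠ 2 := by
    rintro rfl
    apply hab
    set C : Subgroup M := (M ⊓ centralizer ({g} : Set G)).subgroupOf M with hC
    have hCc : Nat.card C = 5 ^ 2 := by
      rw [← hf]
      rw [hC, ← card_map_of_injective M.subtype_injective, subgroupOf_map_subtype, inf_assoc, inf_comm _ M,
        ← inf_assoc, inf_idem]
    have hcm : IsMulCommutative C := IsPGroup.isMulCommutative_of_card_eq_prime_sq hCc
    set X : Subgroup M := zpowers (⟨x, h.mem⟩ : M) with hX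
    have hXc : Nat.card X = 5 := by rw [hX, Nat.card_zpowers, Subgroup.orderOf_mk, h.ord]
    have hdis : Disjoint C X := by
      rw [disjoint_iff, eq_bot_iff]
      rintro m ⟨hm, hm'⟩
      obtain ⟨i, rfl⟩ := mem_zpowers_iff.1 hm'
      rw [mem_bot]
      apply Subtype.ext
      have h1 : ((⟨x, h.mem⟩ : M) ^ i : M).1 ∈ centralizer ({g} : Set G) := (mem_subgroupOf.1 hm).2
      exact hxg i (mem_centralizer_singleton_iff.1 h1)
    have hcomp := isComplement'_of_card_mul_and_disjoint (H := C) (K := X)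
      (by rw [hCc, hXc, h.cardM]; norm_num) hdis
    have hsurj : ∀ m : M, ∃ c ∈ C, ∃ i : ℤ, c * (⟨x, h.mem⟩ : M) ^ i = m := by
      intro m
      obtain ⟨⟨c, y⟩, hcy⟩ := hcomp.2 m
      obtain ⟨i, hi⟩ := mem_zpowers_iff.1 y.2
      refine ⟨c, c.2, i, ?_⟩
      rw [hi]
      exact hcy
    obtain ⟨c, hc, i, hi⟩ := hsurj ⟨a, ha⟩
    obtain ⟨c', hc', i', hi'⟩ := hsurj ⟨b, hb⟩
    have hcc : c * c' = c' * c := congrArg Subtype.val (hcm.is_comm.comm (⟨c, hc⟩ : C) ⟨c', hc'⟩)
    have hxc : ∀ m : M, Commute (⟨x, h.mem⟩ : M) m := fun m =>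
      Subtype.ext (mem_centralizer_singleton_iff.1 (h.le m.2)).symm
    have h1 : Commute (⟨a, ha⟩ : M) ⟨b, hb⟩ := by
      rw [← hi, ← hi']
      refine Commute.mul_left (Commute.mul_right hcc ((hxc c).symm.zpow_right i')) ?_
      exact (hxc _).zpow_left i
    exact congrArg Subtype.val h1.eq
  have : f = 1 := by omega
  rw [hf, this, pow_one]

/-- the number of involutions in a coset -/
theorem card_inverted {g : G} (hg : g * x * g⁻¹ = x⁻¹) (hgg : g * g = 1) :
    Nat.card {m : G // m ∈ M ∧ g * m * g⁻¹ = m⁻¹} = 25 := by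
  rw [← delta_eq_card_inverted hgg h.odd (h.nrm g hg)]
  have h1 := card_eq g M
  rw [h.card_fixed hg hgg, h.cardM] at h1
  omega

theorem conj_mul {g m : G} (hg : g * x * g⁻¹ = x⁻¹) (hm : m * x = x * m) : (g * m) * x * (g * m)⁻¹ = x⁻¹ := by
  calc (g * m) * x * (g * m)⁻¹ = g * (m * x) * m⁻¹ * g⁻¹ := by group
    _ = g * x * g⁻¹ := by rw [hm]; group
    _ = x⁻¹ := hg

/-- **the number of involutions inverting `x`** -/
theorem exists_card : ∃ j : ℕ, numInv t x = 25 * j ∧ j ≤ 24 := by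
  classical
  have := Fintype.ofFinite G
  have : Finite (G ⧸ M) := inferInstance
  have := Fintype.ofFinite (G ⧸ M)
  set T : Finset G := Finset.univ.filter fun g => IsConj t g ∧ g * x * g⁻¹ = x⁻¹ with hT
  set E : Finset G := Finset.univ.filter fun g => g * x * g⁻¹ = x⁻¹ with hE
  have hsq : ∀ g ∈ T, g * g = 1 := by
    intro g hg
    rw [hT, Finset.mem_filter] at hg
    exact sq_of_isConj (by rw [← pow_two, ← h.ot, pow_orderOf_eq_one]) hg.2.1
  have hnum : numInv t x = T.card := by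
    unfold numInv
    rw [Nat.card_eq_fintype_card, Fintype.card_subtype]
  let f : G → G ⧸ M := fun g => (g : G ⧸ M)
  have hfib : ∀ b ∈ T.image f, (T.filter fun g => f g = b).card = 25 := by
    intro b hb
    obtain ⟨g, hg, rfl⟩ := Finset.mem_image.1 hb
    have hgg := hsq g hg
    have hg' := (Finset.mem_filter.1 hg).2
    rw [← h.card_inverted hg'.2 hgg, ← Fintype.card_coe, ← Nat.card_eq_fintype_card]
    symm
    have key : ∀ m : G, m ∈ M → g * m * g⁻¹ = m⁻¹ → g * m ∈ T.filter fun g' => f g' = f g := by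
      intro m hm hgm
      have h1 : (g * m) * x * (g * m)⁻¹ = x⁻¹ := h.conj_mul hg'.2 (mem_centralizer_singleton_iff.1 (h.le hm))
      have h2 : (g * m) * (g * m) = 1 := by
        have h3 : g⁻¹ = g := inv_eq_of_mul_eq_one_right hgg
        rw [h3] at hgm
        calc (g * m) * (g * m) = (g * m * g) * m := by simp only [mul_assoc]
          _ = 1 := by rw [hgm, inv_mul_cancel]
      rw [Finset.mem_filter, hT, Finset.mem_filter]
      refine ⟨⟨Finset.mem_univ _, h.cls _ (h.order_two h1 h2), h1⟩, ?_⟩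
      exact (QuotientGroup.eq.2 (by rw [mul_inv_rev, inv_mul_cancel_right]; exact inv_mem hm))
    refine Nat.card_congr
      { toFun := fun m => ⟨g * m.1, key m.1 m.2.1 m.2.2⟩
        invFun := fun g' => ⟨g⁻¹ * g'.1, ?_, ?_⟩
        left_inv := fun m => Subtype.ext (by simp)
        right_inv := fun g' => Subtype.ext (by simp) }
    · have h1 := (Finset.mem_filter.1 g'.2).2
      exact QuotientGroup.eq.1 h1.symm
    · have h1 := hsq _ (Finset.mem_filter.1 g'.2).1
      have h3 : g'.1⁻¹ = g'.1 := inv_eq_of_mul_eq_one_right h1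
      rw [mul_inv_rev, inv_inv, h3]
      have h4 : g⁻¹ = g := inv_eq_of_mul_eq_one_right hgg
      rw [mul_inv_cancel_left, h4]
  have hTc : T.card = 25 * (T.image f).card := by
    rw [Finset.card_eq_sum_card_image f T, Finset.sum_congr rfl hfib, Finset.sum_const, smul_eq_mul, mul_comm]
  refine ⟨(T.image f).card, by rw [hnum, hTc], ?_⟩
  rcases T.eq_empty_or_nonempty with hTe | ⟨g0, hg0⟩
  · rw [hTe]
    simp
  · have hg0' := (Finset.mem_filter.1 hg0).2
    -- the whole coset
    have hEc : E.card = 3000 := by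
      rw [← h.card, ← Fintype.card_coe, ← Nat.card_eq_fintype_card]
      refine Nat.card_congr
        { toFun := fun e => ⟨g0⁻¹ * e.1, ?_⟩
          invFun := fun m => ⟨g0 * m.1, ?_⟩
          left_inv := fun m => Subtype.ext (by simp)
          right_inv := fun g' => Subtype.ext (by simp) }
      · have h1 := (Finset.mem_filter.1 e.2).2
        rw [mem_centralizer_singleton_iff]
        have h2 : e.1 * x = g0 * x * g0⁻¹ * e.1 := by
          rw [hg0'.2, ← h1]; group
        calc g0⁻¹ * e.1 * x = g0⁻¹ * (e.1 * x) := by group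
          _ = x * (g0⁻¹ * e.1) := by rw [h2]; group
      · rw [hE, Finset.mem_filter]
        exact ⟨Finset.mem_univ _, h.conj_mul hg0'.2 (mem_centralizer_singleton_iff.1 m.2)⟩
    have hfibE : ∀ b ∈ E.image f, (E.filter fun g => f g = b).card = 125 := by
      intro b hb
      obtain ⟨g, hg, rfl⟩ := Finset.mem_image.1 hb
      have hg' := (Finset.mem_filter.1 hg).2
      rw [← h.cardM, ← Fintype.card_coe, ← Nat.card_eq_fintype_card]
      symm
      refine Nat.card_congr
        { toFun := fun m => ⟨g * m.1, ?_⟩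
          invFun := fun g' => ⟨g⁻¹ * g'.1, ?_⟩
          left_inv := fun m => Subtype.ext (by simp)
          right_inv := fun g' => Subtype.ext (by simp) }
      · rw [Finset.mem_filter, hE, Finset.mem_filter]
        refine ⟨⟨Finset.mem_univ _, h.conj_mul hg' (mem_centralizer_singleton_iff.1 (h.le m.2))⟩, ?_⟩
        exact (QuotientGroup.eq.2 (by rw [mul_inv_rev, inv_mul_cancel_right]; exact inv_mem m.2))
      · have h1 := (Finset.mem_filter.1 g'.2).2
        exact QuotientGroup.eq.1 h1.symm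
    have hEc' : E.card = 125 * (E.image f).card := by
      rw [Finset.card_eq_sum_card_image f E, Finset.sum_congr rfl hfibE, Finset.sum_const, smul_eq_mul, mul_comm]
    have hle : (T.image f).card ≤ (E.image f).card := by
      refine Finset.card_le_card (Finset.image_subset_image ?_)
      intro g hg
      rw [hT, Finset.mem_filter] at hg
      rw [hE, Finset.mem_filter]
      exact ⟨hg.1, hg.2.2⟩
    omega

/-- the number is even -/
theorem even_card {s : G} (hs : orderOf s = 2) (hsx : s * x = x * s) : Even (numInv t x) := by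
  classical
  have := Fintype.ofFinite G
  have hss : s * s = 1 := by rw [← pow_two, ← hs, pow_orderOf_eq_one]
  have hsi : s⁻¹ = s := inv_eq_of_mul_eq_one_right hss
  have hs1 : s ≠ 1 := by
    rintro rfl
    rw [orderOf_one] at hs
    norm_num at hs
  set T : Finset G := Finset.univ.filter fun g => IsConj t g ∧ g * x * g⁻¹ = x⁻¹ with hT
  have hsq : ∀ g ∈ T, g * g = 1 := by
    intro g hg
    rw [hT, Finset.mem_filter] at hg
    exact sq_of_isConj (by rw [← pow_two, ← h.ot, pow_orderOf_eq_one]) hg.2.1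
  have hnum : numInv t x = T.card := by
    unfold numInv
    rw [Nat.card_eq_fintype_card, Fintype.card_subtype]
  have hmem : ∀ g : G, g * g = 1 → g * x * g⁻¹ = x⁻¹ → g ∈ T := by
    intro g h1 h2
    rw [hT, Finset.mem_filter]
    exact ⟨Finset.mem_univ _, h.cls _ (h.order_two h2 h1), h2⟩
  rw [hnum]
  rw [← ZMod.natCast_eq_zero_iff_even]
  have key : ∑ g ∈ T, (1 : ZMod 2) = 0 := by
    refine Finset.sum_involution (fun g _ => if g * s = s * g then g * s else s * g * s⁻¹) ?_ ?_ ?_ ?_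
    · intro g hg
      decide
    · intro g hg _ heq
      split_ifs at heq with hc
      · exact hs1 (mul_eq_left.1 heq)
      · exact hc (mul_inv_eq_iff_eq_mul.1 heq).symm
    · intro g hg
      have h1 := hsq g hg
      have h2 : g * x * g⁻¹ = x⁻¹ := (Finset.mem_filter.1 hg).2.2
      split_ifs with hc
      · refine hmem _ ?_ (h.conj_mul h2 hsx)
        calc g * s * (g * s) = g * (s * g) * s := by group
          _ = (g * g) * (s * s) := by rw [← hc]; group
          _ = 1 := by rw [h1, hss, one_mul]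
      · refine hmem _ ?_ ?_
        · calc s * g * s⁻¹ * (s * g * s⁻¹) = s * (g * g) * s⁻¹ := by group
            _ = 1 := by rw [h1]; group
        · calc s * g * s⁻¹ * x * (s * g * s⁻¹)⁻¹ = s * g * (s⁻¹ * x * s) * g⁻¹ * s⁻¹ := by group
            _ = s * (g * x * g⁻¹) * s⁻¹ := by
              rw [mul_assoc s⁻¹, ← hsx]; group
            _ = s * x⁻¹ * s⁻¹ := by rw [h2]
            _ = (s * x * s⁻¹)⁻¹ := by group
            _ = x⁻¹ := by rw [hsx, mul_inv_cancel_right]
    · intro g hg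
      split_ifs with hc hc' hc'
      · rw [mul_assoc, hss, mul_one]
      · exfalso
        apply hc'
        calc g * s * s = g * s * s := rfl
          _ = s * g * s := by rw [hc]
          _ = s * (g * s) := by rw [mul_assoc]
      · exfalso
        apply hc
        have h3 : s * g * s⁻¹ * s = s * (s * g * s⁻¹) := hc'
        rw [inv_mul_cancel_right, ← mul_assoc, ← mul_assoc, hss, one_mul, hsi] at h3
        exact h3.symm
      · rw [hsi]
        calc s * (s * g * s) * s = (s * s) * g * (s * s) := by simp only [mul_assoc]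
          _ = g := by rw [hss]; group
  simpa using key

end Cnt

end Cfsg.Agent.H227.IMTh.Five
end

-- part: H227/IMThJ
section
/-!
# Itô-Michler for the Thompson group: `p = 5` (helper227)

All elements of order 5 are conjugate, the centralizer has order 3000; `I` the number of involutions inverting
an element of order 5: `I = 25 j`, `j ≤ 24` even; if no degree is divisible by 5 then `25 ∣ 39073671 + 124 j`.
-/

set_option autoImplicit false
set_option maxRecDepth 100000
set_option linter.unusedSectionVars false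

namespace Cfsg.Agent.H227.IMTh.Five

open Subgroup Cfsg
open Cfsg.Agent.Th.Base Cfsg.Agent.Th.Word Cfsg.Agent.Th.RelWords Cfsg.Agent.Th.PermTab
  Cfsg.Agent.Th.KOracle Cfsg.Agent.Th.KPerm Cfsg.Agent.Th.NineAct Cfsg.Agent.Th.CStruct
  Cfsg.Agent.Th.COracleDef Cfsg.Agent.Th.COracleSound
open Cfsg.Agent.KFacts.Th.Mask Cfsg.Agent.KFacts.Th.Struct
open Cfsg.Agent.CpAutTh.Data Cfsg.Agent.CpAutTh.Alt Cfsg.Agent.CpAutTh.RankOne Cfsg.Agent.CpAutTh.Local
  Cfsg.Agent.CpAutTh.Mid Cfsg.Agent.CpAutTh.ThreePerm Cfsg.Agent.CpAutTh.ThreeE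
open Cfsg.Agent.BpSpor.ThCent Cfsg.Agent.BpSpor.ThThree
open Cfsg.Agent.ThFive Cfsg.Agent.ThFive.Five
open Cfsg.Agent.Th.IndexUpper Cfsg.Agent.H723.Spor.Th Cfsg.Agent.H33 Cfsg.Agent.H227.IMPairsP Cfsg.Agent.H502

universe u

theorem numInv_conj {G : Type u} [Group G] [Finite G] (t z g : G) : numInv t (g * z * g⁻¹) = numInv t z := by
  unfold numInv
  refine Nat.card_congr
    { toFun := fun q => ⟨g⁻¹ * q.1 * g, q.2.1.trans (isConj_iff.2 ⟨g⁻¹, by group⟩), ?_⟩
      invFun := fun q => ⟨g * q.1 * g⁻¹, q.2.1.trans (isConj_iff.2 ⟨g, rfl⟩), ?_⟩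
      left_inv := fun q => Subtype.ext (by group)
      right_inv := fun q => Subtype.ext (by group) }
  · have h := q.2.2
    calc g⁻¹ * q.1 * g * z * (g⁻¹ * q.1 * g)⁻¹ = g⁻¹ * (q.1 * (g * z * g⁻¹) * q.1⁻¹) * g := by group
      _ = z⁻¹ := by rw [h]; group
  · have h := q.2.2
    calc g * q.1 * g⁻¹ * (g * z * g⁻¹) * (g * q.1 * g⁻¹)⁻¹ = g * (q.1 * z * q.1⁻¹) * g⁻¹ := by group
      _ = (g * z * g⁻¹)⁻¹ := by rw [h]; group

/-- the group `M` -/
structure Mid (M : Subgroup Spor.Th) : Prop where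
  card : Nat.card M = 125
  le : M ≤ centralizer ({x5} : Set Spor.Th)
  mem : x5 ∈ M
  max : ∀ q : Spor.Th, q * x5 = x5 * q → ∀ k : ℕ, q ^ 5 ^ k = 1 → q ∈ M
  cen : ∀ n ∈ M, (∀ m ∈ M, m * n = n * m) → n ∈ zpowers x5
  na : ∃ a ∈ M, ∃ b ∈ M, a * b ≠ b * a
  conj : ∀ m ∈ M, m ≠ 1 → IsConj m x5

theorem exists_Mid : ∃ M, Mid M := by
  have hfin := fin_th
  have h5F : Fact (Nat.Prime 5) := ⟨Nat.prime_five⟩
  obtain ⟨f, F⟩ := CpAutTh.Local.exists_epi KFacts.Th.Main.ctx
  obtain ⟨N, hN⟩ := (sit5 KFacts.Th.Main.ctx F).core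
  have hNc : Nat.card N = 125 := card_N hN
  have hH : Nat.card ↥(centralizer ({ev gTh X5} : Set Spor.Th)) = 3000 := card_x5
  have hNn := hN.normal
  have hmemN : ∀ (q : ↥(centralizer ({ev gTh X5} : Set Spor.Th))) (k : ℕ), q ^ 5 ^ k = 1 → q ∈ N := by
    intro q k hq
    have h1 : orderOf (QuotientGroup.mk' N q) ∣ 5 ^ k := orderOf_dvd_of_pow_eq_one (by
      rw [← map_pow, hq, map_one])
    have h2 : orderOf (QuotientGroup.mk' N q) ∣ 24 := by
      have h3 := card_eq_card_quotient_mul_card_subgroup N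
      rw [hH, hNc] at h3
      have h4 : Nat.card (↥(centralizer ({ev gTh X5} : Set Spor.Th)) ⧸ N) = 24 := by omega
      rw [← h4]
      exact orderOf_dvd_natCard _
    have h3 : Nat.Coprime (5 ^ k) 24 := Nat.Coprime.pow_left k (by norm_num)
    have h4 : orderOf (QuotientGroup.mk' N q) = 1 := Nat.eq_one_of_dvd_coprimes h3 h1 h2
    exact (QuotientGroup.eq_one_iff q).1 (orderOf_eq_one_iff.1 h4)
  set M := N.map (centralizer ({ev gTh X5} : Set Spor.Th)).subtype with hM
  have hMc : Nat.card M = 125 := by rw [hM, card_map_of_injective (subtype_injective _), hNc]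
  have hMle : M ≤ centralizer ({x5} : Set Spor.Th) := by
    rintro _ ⟨n, -, rfl⟩
    exact n.2
  have hmax : ∀ q : Spor.Th, q * x5 = x5 * q → ∀ k : ℕ, q ^ 5 ^ k = 1 → q ∈ M := by
    intro q hq k hk
    exact ⟨⟨q, mem_centralizer_singleton_iff.2 hq⟩, hmemN _ k (Subtype.ext hk), rfl⟩
  -- the elements of `P5`
  obtain ⟨g, hg⟩ := z_conj
  have hP : ∀ q ∈ ThFiveP.P5, g * q * g⁻¹ ∈ M := by
    intro q hq
    obtain ⟨k, hk⟩ := ThFiveP.isPGroup_P5 ⟨q, hq⟩
    refine hmax _ ?_ k ?_
    · rw [← hg]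
      have h1 : q * ThFiveP.z = ThFiveP.z * q := mem_centralizer_singleton_iff.1 (P5_le hq)
      calc g * q * g⁻¹ * (g * ThFiveP.z * g⁻¹) = g * (q * ThFiveP.z) * g⁻¹ := by group
        _ = g * ThFiveP.z * g⁻¹ * (g * q * g⁻¹) := by rw [h1]; group
    · have hk' : q ^ 5 ^ k = 1 := congrArg Subtype.val hk
      rw [conj_pow, hk', mul_one, mul_inv_cancel]
  have hxy : ThFiveP.x * ThFiveP.y ≠ ThFiveP.y * ThFiveP.x := by
    intro h1
    rw [ThFiveP.xy] at h1
    exact z_ne (mul_eq_left.1 h1)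
  have hna : ∃ a ∈ M, ∃ b ∈ M, a * b ≠ b * a := by
    refine ⟨_, hP _ ThFiveP.x_mem, _, hP _ ThFiveP.y_mem, fun h1 => hxy ?_⟩
    have h2 : g * (ThFiveP.x * ThFiveP.y) * g⁻¹ = g * (ThFiveP.y * ThFiveP.x) * g⁻¹ := by
      calc g * (ThFiveP.x * ThFiveP.y) * g⁻¹ = g * ThFiveP.x * g⁻¹ * (g * ThFiveP.y * g⁻¹) := by group
        _ = g * (ThFiveP.y * ThFiveP.x) * g⁻¹ := by rw [h1]; group
    exact mul_left_cancel (mul_right_cancel h2)
  have hnaN : ∃ a ∈ N, ∃ b ∈ N, a * b ≠ b * a := by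
    obtain ⟨_, ⟨a, ha, rfl⟩, _, ⟨b, hb, rfl⟩, hab⟩ := hna
    exact ⟨a, ha, b, hb, fun h1 => hab (by
      show (a : Spor.Th) * b = b * a
      rw [← Subgroup.coe_mul, h1, Subgroup.coe_mul])⟩
  have hzp : ∀ n : ↥(centralizer ({ev gTh X5} : Set Spor.Th)), n ∈ zpowers (xx gTh X5) ↔
      (n : Spor.Th) ∈ zpowers x5 := by
    intro n
    constructor
    · intro hn
      obtain ⟨i, rfl⟩ := mem_zpowers_iff.1 hn
      exact mem_zpowers_iff.2 ⟨i, rfl⟩
    · intro hn
      obtain ⟨i, hi⟩ := mem_zpowers_iff.1 hn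
      exact mem_zpowers_iff.2 ⟨i, Subtype.ext hi⟩
  have h3 : 3 ∣ Nat.card ↥(centralizer ({sx KFacts.Th.Main.ctx c5} :
      Set ↥(centralizer ({ev gTh X5} : Set Spor.Th)))) := by
    rw [card_cent_s KFacts.Th.Main.ctx F]
    norm_num
  refine ⟨M, hMc, hMle, ?_, hmax, ?_, hna, ?_⟩
  · refine hmax _ rfl 1 ?_
    rw [pow_one, ← order_x5, pow_orderOf_eq_one]
  · rintro _ ⟨n, hn, rfl⟩ hc
    refine (hzp n).1 (center_N hN hNc hnaN hn fun m hm => ?_)
    exact Subtype.ext (hc _ ⟨m, hm, rfl⟩)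
  · rintro m hm hm1
    by_cases hz : m ∈ zpowers x5
    · obtain ⟨i, hi⟩ := mem_zpowers_iff.1 hz
      have hcm : m * gTh 1 = gTh 1 * m := by
        rw [← hi]
        exact (show Commute x5 (gTh 1) from x5_comm).zpow_left i
      have h5 : orderOf m = 5 := by
        refine orderOf_eq_prime ?_ hm1
        rw [← hi, ← zpow_natCast, ← zpow_mul, mul_comm, zpow_mul, zpow_natCast, ← order_x5, pow_orderOf_eq_one,
          one_zpow]
      obtain ⟨c, -, hc⟩ := conj_five h5 order_one hcm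
      exact isConj_iff.2 ⟨c, hc⟩
    · obtain ⟨n, hn, rfl⟩ := hm
      obtain ⟨n', hn', hn'y⟩ := hP _ ThFiveP.y_mem
      have h1 : n' ∉ zpowers (xx gTh X5) := by
        rw [hzp]
        intro h1
        have h2 : (n' : Spor.Th) = g * ThFiveP.y * g⁻¹ := hn'y
        rw [h2] at h1
        -- `y` commutes with `x`
        apply hxy
        have h4 : (g * ThFiveP.x * g⁻¹) * (g * ThFiveP.y * g⁻¹) = (g * ThFiveP.y * g⁻¹) * (g * ThFiveP.x * g⁻¹) := by
          obtain ⟨i, hi⟩ := mem_zpowers_iff.1 h1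
          have h5 := mem_centralizer_singleton_iff.1 (hMle (hP _ ThFiveP.x_mem))
          rw [← hi]
          exact (show Commute (g * ThFiveP.x * g⁻¹) x5 from h5).zpow_right i
        have h6 : g * (ThFiveP.x * ThFiveP.y) * g⁻¹ = g * (ThFiveP.y * ThFiveP.x) * g⁻¹ := by
          calc g * (ThFiveP.x * ThFiveP.y) * g⁻¹ = g * ThFiveP.x * g⁻¹ * (g * ThFiveP.y * g⁻¹) := by group
            _ = g * (ThFiveP.y * ThFiveP.x) * g⁻¹ := by rw [h4]; group
        exact mul_left_cancel (mul_right_cancel h6)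
      have h2 : n ∉ zpowers (xx gTh X5) := by
        rw [hzp]; exact hz
      have h4 := trans hN hNc hnaN hH h3 hn h2 hn' h1
      have h5 : IsConj (n : Spor.Th) (n' : Spor.Th) := by
        obtain ⟨c, hc⟩ := isConj_iff.1 h4
        exact isConj_iff.2 ⟨c, congrArg Subtype.val hc⟩
      have h6 : (n' : Spor.Th) = g * ThFiveP.y * g⁻¹ := hn'y
      rw [h6] at h5
      obtain ⟨c, hc⟩ := y_conj
      have h7 : IsConj (g * ThFiveP.y * g⁻¹) ThFiveP.y := isConj_iff.2 ⟨g⁻¹, by group⟩
      exact h5.trans (h7.trans (isConj_iff.2 ⟨c, hc⟩))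

theorem Mid.cnt {M : Subgroup Spor.Th} (hM : Mid M) : Cnt (gTh 1) x5 M where
  cardM := hM.card
  le := hM.le
  mem := hM.mem
  ord := order_x5
  na := hM.na
  nrm := by
    intro g hg m hm
    have hfin := fin_th
    have hgi : g * x5⁻¹ * g⁻¹ = x5 := by
      calc g * x5⁻¹ * g⁻¹ = (g * x5 * g⁻¹)⁻¹ := by group
        _ = x5 := by rw [hg, inv_inv]
    have hmx : m * x5 = x5 * m := mem_centralizer_singleton_iff.1 (hM.le hm)
    refine hM.max _ ?_ 3 ?_
    · have h1 : m * x5⁻¹ = x5⁻¹ * m := (show Commute m x5 from hmx).inv_right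
      calc g * m * g⁻¹ * x5 = g * m * g⁻¹ * (g * x5⁻¹ * g⁻¹) := by rw [hgi]
        _ = g * (m * x5⁻¹) * g⁻¹ := by group
        _ = g * x5⁻¹ * g⁻¹ * (g * m * g⁻¹) := by rw [h1]; group
        _ = x5 * (g * m * g⁻¹) := by rw [hgi]
    · have h1 : (⟨m, hm⟩ : M) ^ Nat.card M = 1 := pow_card_eq_one'
      rw [hM.card] at h1
      have h2 : m ^ 125 = 1 := congrArg Subtype.val h1
      rw [conj_pow, show 5 ^ 3 = 125 by norm_num, h2, mul_one, mul_inv_cancel]
  ot := order_one
  cls := fun u hu => MonsterX.ThOneClass.oneClass _ _ order_one hu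
  card := card_x5

theorem key5 : ∀ j < 25, Even (25 * j) → ¬ (125 ^ 2 ∣ (976841775 + 124 * (25 * j)) * 92897280 ^ 2) := by
  decide +kernel

theorem arith5 (j : ℕ) (hj : j ≤ 24) (he : Even (25 * j))
    (h : 125 ^ 2 ∣ (976841775 + 124 * (25 * j)) * 92897280 ^ 2) : False :=
  key5 j (Nat.lt_succ_of_le hj) he h

theorem im_five : IM 5 Spor.Th := by
  classical
  have hfin := fin_th
  have h5F : Fact (Nat.Prime 5) := ⟨Nat.prime_five⟩
  by_contra hno
  obtain ⟨M, hM⟩ := exists_Mid
  have hc := hM.cnt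
  obtain ⟨j, hj, hj24⟩ := hc.exists_card
  have hev := hc.even_card order_one x5_comm.symm
  have : Fintype M := Fintype.ofFinite _
  have hfac : (Nat.card Spor.Th).factorization 5 = 3 := by
    rw [card_th, show (90745943887872000 : ℕ) = 5 ^ 3 * 725967551102976 by norm_num,
      Nat.factorization_mul (by norm_num) (by norm_num), Nat.Prime.factorization_pow (by norm_num)]
    simp [Nat.factorization_eq_zero_of_not_dvd (show ¬ 5 ∣ 725967551102976 by decide)]
  have h1 := sq_dvd_of_not_IM_involution' (p := 5) (by norm_num) hno M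
    ⟨Sylow.ofCard M (by rw [hM.card, hfac]; norm_num), rfl⟩ (t := gTh 1)
    (by rw [← pow_two, ← order_one, pow_orderOf_eq_one])
  have h2 : ∑ z : M, numInv (gTh 1) (z : Spor.Th) = 976841775 + 124 * (25 * j) := by
    have h3 : ∀ z : M, numInv (gTh 1) (z : Spor.Th) = if z = 1 then 976841775 else 25 * j := by
      intro z
      split_ifs with hz
      · rw [hz, Subgroup.coe_one, numInv_one]
        have h4 := (centralizer ({gTh 1} : Set Spor.Th)).card_mul_index
        rw [card_inv _ order_one, card_th] at h4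
        omega
      · obtain ⟨c, hc'⟩ := isConj_iff.1 (hM.conj z z.2 fun h4 => hz (Subtype.ext h4))
        rw [← hj, ← hc', numInv_conj]
    rw [Finset.sum_congr rfl fun z _ => h3 z, Finset.sum_ite, Finset.sum_const, Finset.sum_const,
      Finset.filter_eq' Finset.univ (1 : M), if_pos (Finset.mem_univ _), Finset.card_singleton,
      Finset.filter_ne', Finset.card_erase_of_mem (Finset.mem_univ _), Finset.card_univ,
      one_smul, smul_eq_mul, ← Nat.card_eq_fintype_card, hM.card]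
  rw [h2, hM.card, card_inv _ order_one] at h1
  rw [hj] at hev
  exact arith5 j hj24 hev h1

end Cfsg.Agent.H227.IMTh.Five
end
end

-- part: H227/IMTh
section
set_option linter.all false
open scoped Cfsg.Agent.FastGrp

-- part: H227/IMInvPrime
section
/-!
# The pair count for involutions when `p` divides the order exactly once (helper227)

* `sum_numInv` : the sum of `numInv t z` over `z ∈ ⟨x⟩`, `x` of prime order;
* `congr_of_not_IM` : `x` of order `p` inverted by the involution `t`, `C(x)` of odd order,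
  `p` prime to `m = |C(t)|`, `b = |C(x) ∩ C(t)|`: if no degree is divisible by `p` then
  `|C(x)| = p * (a * b)` with `a * m ≡ |G| / p` modulo `p`.
-/

set_option autoImplicit false
set_option linter.unusedSectionVars false

open Cfsg

namespace Cfsg.Agent.H227.IMPairsP

open Cfsg.Agent.Characters.Core Cfsg.Agent.Blocks.Basic Cfsg.Agent.H33 Cfsg.Agent.H713.Count

universe u

variable {G : Type u} [Group G] [Finite G] {p : ℕ} [hp : Fact p.Prime]

omit [Finite G] in
/-- an element inverting `x ^ i` inverts `x` (`x` of prime order, `x ^ i ≠ 1`) -/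
theorem numInv_pow {t x : G} (hx : x ^ p = 1) {i : ℕ} (hi : ¬ p ∣ i) :
    numInv t (x ^ i) = numInv t x := by
  unfold numInv
  refine Nat.card_congr (Equiv.subtypeEquivRight fun g => and_congr_right fun _ => ?_)
  constructor
  · intro h
    have hcop : Nat.Coprime i p := ((Nat.Prime.coprime_iff_not_dvd hp.out).2 hi).symm
    obtain ⟨j, hj⟩ : ∃ j : ℕ, (x ^ i) ^ j = x := by
      have hdvd : orderOf x ∣ p := orderOf_dvd_of_pow_eq_one hx
      exact exists_pow_eq_self_of_coprime (hcop.coprime_dvd_right hdvd)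
    have h2 := congrArg (· ^ j) h
    simp only [conj_pow, inv_pow] at h2
    rwa [hj] at h2
  · intro h
    rw [← conj_pow, h, inv_pow]

theorem sum_numInv {t x : G} (hx : orderOf x = p) [Fintype (Subgroup.zpowers x)] :
    ∑ z : Subgroup.zpowers x, numInv t (z : G) =
      (Subgroup.centralizer ({t} : Set G)).index + (p - 1) * numInv t x := by
  classical
  have hxp : x ^ p = 1 := by rw [← hx]; exact pow_orderOf_eq_one x
  have h1 : ∀ z : Subgroup.zpowers x, numInv t (z : G) =
      if z = 1 then (Subgroup.centralizer ({t} : Set G)).index else numInv t x := by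
    intro z
    split_ifs with hz
    · rw [hz]
      exact numInv_one
    · have hz1 := z.2
      rw [← mem_powers_iff_mem_zpowers] at hz1
      obtain ⟨k, hk⟩ := hz1
      have hk' : x ^ k = (z : G) := hk
      rw [← hk']
      refine numInv_pow hxp fun hd => hz ?_
      apply Subtype.ext
      obtain ⟨c, rfl⟩ := hd
      rw [← hk', pow_mul, hxp, one_pow]
      rfl
  rw [Finset.sum_congr rfl fun z _ => h1 z, Finset.sum_ite, Finset.sum_const, Finset.sum_const,
    Finset.filter_eq' Finset.univ (1 : Subgroup.zpowers x), if_pos (Finset.mem_univ _),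
    Finset.card_singleton, Finset.filter_ne', Finset.card_erase_of_mem (Finset.mem_univ _),
    Finset.card_univ, one_smul, smul_eq_mul, ← Nat.card_eq_fintype_card, Nat.card_zpowers, hx]

theorem congr_of_not_IM (hp2 : p ≠ 2) (hG : (Nat.card G).factorization p = 1) (h : ¬ IM p G)
    {x t : G} (hx : orderOf x = p) (ht : orderOf t = 2) (htx : t * x * t⁻¹ = x⁻¹)
    (hpm : ¬ p ∣ Nat.card (Subgroup.centralizer ({t} : Set G)))
    (hodd : Odd (Nat.card (Subgroup.centralizer ({x} : Set G)))) :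
    ∃ a, Nat.card (Subgroup.centralizer ({x} : Set G)) =
        p * (a * Nat.card ↥(Subgroup.centralizer ({x} : Set G) ⊓ Subgroup.centralizer ({t} : Set G))) ∧
      (a * Nat.card (Subgroup.centralizer ({t} : Set G))) % p = (Nat.card G / p) % p := by
  classical
  have htt := (Cfsg.Agent.H713.orderOf_two ht).1
  have hcard := Cfsg.Agent.H713.card_inverting hodd ht htx
  set b := Nat.card ↥(Subgroup.centralizer ({x} : Set G) ⊓ Subgroup.centralizer ({t} : Set G)) with hb
  set m := Nat.card (Subgroup.centralizer ({t} : Set G)) with hm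
  have hI : Nat.card {g : G // IsConj t g ∧ g * x * g⁻¹ = x⁻¹} = numInv t x := rfl
  rw [hI] at hcard
  have hbm : b ∣ m := Subgroup.card_dvd_of_le inf_le_right
  have hbp : ¬ p ∣ b := fun h => hpm (h.trans hbm)
  have hxC : x ∈ Subgroup.centralizer ({x} : Set G) := Subgroup.mem_centralizer_singleton_iff.2 rfl
  have hpC : p ∣ Nat.card (Subgroup.centralizer ({x} : Set G)) := by
    rw [← hx, ← Subgroup.orderOf_mk x hxC]
    exact orderOf_dvd_natCard _
  have hpI : p ∣ numInv t x := by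
    rw [← hcard] at hpC
    exact (hp.out.dvd_mul.1 hpC).resolve_right hbp
  obtain ⟨a, ha⟩ := hpI
  refine ⟨a, by rw [← hcard, ha]; ring, ?_⟩
  have hcardP : Nat.card (Subgroup.zpowers x) = p ^ (Nat.card G).factorization p := by
    rw [Nat.card_zpowers, hx, hG, pow_one]
  have : Fintype (Subgroup.zpowers x) := Fintype.ofFinite _
  have h1 := sq_dvd_of_not_IM_involution' hp2 h (Subgroup.zpowers x)
    ⟨Sylow.ofCard (Subgroup.zpowers x) hcardP, rfl⟩ htt
  rw [sum_numInv hx, Nat.card_zpowers, hx, ← hm, ha] at h1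
  have hmI : m * (Subgroup.centralizer ({t} : Set G)).index = Nat.card G :=
    (Subgroup.centralizer ({t} : Set G)).card_mul_index
  have hcop : Nat.Coprime (p ^ 2) (m ^ 2) :=
    Nat.Coprime.pow 2 2 ((Nat.Prime.coprime_iff_not_dvd hp.out).2 hpm)
  have h4 := hcop.dvd_of_dvd_mul_right h1
  have hpT : p ∣ (Subgroup.centralizer ({t} : Set G)).index := by
    have hpG : p ∣ Nat.card G := by
      have := Nat.ordProj_dvd (Nat.card G) p
      rwa [hG, pow_one] at this
    rw [← hmI] at hpG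
    exact (hp.out.dvd_mul.1 hpG).resolve_left hpm
  obtain ⟨T', hT'⟩ := hpT
  have hpp := hp.out.pos
  have hGp : Nat.card G / p = m * T' := by
    rw [← hmI, hT', show m * (p * T') = p * (m * T') by ring, Nat.mul_div_cancel_left _ hpp]
  have h10 : p ∣ T' + (p - 1) * a := by
    rw [hT', show p * T' + (p - 1) * (p * a) = p * (T' + (p - 1) * a) by ring, pow_two] at h4
    exact Nat.dvd_of_mul_dvd_mul_left hpp h4
  have h11 : a ≡ T' [MOD p] := by
    have h12 : T' + (p - 1) * a + a ≡ 0 + a [MOD p] := ((Nat.modEq_zero_iff_dvd).2 h10).add_right a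
    have h13 : T' + (p - 1) * a + a = T' + p * a := by
      have : (p - 1) * a + a = p * a := by
        conv_lhs => rw [← Nat.succ_mul]
        congr 1
        omega
      omega
    rw [h13, zero_add] at h12
    have h14 : T' + p * a ≡ T' + 0 [MOD p] := by
      exact Nat.ModEq.add_left T' ((Nat.modEq_zero_iff_dvd).2 (dvd_mul_right p a))
    exact (h14.symm.trans h12).symm
  have := h11.mul_right m
  rw [hGp, mul_comm m T']
  exact this

end Cfsg.Agent.H227.IMPairsP
end

-- part: H227/IMThB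
section
/-!
# Itô-Michler for the Thompson group, II: `p = 19` (helper227)

An element `x` of order 19 is inverted by an involution `t` and `N(⟨x⟩)` induces an automorphism of
order 9 on `⟨x⟩`. In `C(t)/O₂ ≅ A₉` an element of order 9 is self-centralizing, therefore `3` does
not divide `|C(x) ∩ C(t)|`; the rest is arithmetic.
-/

set_option autoImplicit false
set_option linter.unusedSectionVars false

open Cfsg

namespace Cfsg.Agent.H227.IMTh

open Cfsg.Agent.H33 Cfsg.Agent.Blocks.Basic Cfsg.Agent.H665.NoPQ Equiv Equiv.Perm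

universe u

/-! ### Permutations of nine points -/

theorem cycleType_of_nine {σ : Perm (Fin 9)} (h : orderOf σ = 9) : σ.cycleType = {9} := by
  have h1 := Equiv.Perm.lcm_cycleType σ
  rw [h] at h1
  have h2 : σ.cycleType.sum ≤ 9 := by
    rw [Equiv.Perm.sum_cycleType]
    exact (Finset.card_le_univ _).trans (by simp)
  by_cases h9 : 9 ∈ σ.cycleType
  · obtain ⟨s, hs⟩ := Multiset.exists_cons_of_mem h9
    rw [hs, Multiset.sum_cons] at h2
    have h3 : s = 0 := by
      rw [Multiset.eq_zero_iff_forall_notMem]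
      intro a ha
      have h4 : 2 ≤ a := Equiv.Perm.two_le_of_mem_cycleType (σ := σ) (by rw [hs]; exact Multiset.mem_cons_of_mem ha)
      have h5 := Multiset.le_sum_of_mem ha
      omega
    rw [hs, h3]
    rfl
  · exfalso
    have h3 : σ.cycleType.lcm ∣ 3 := by
      rw [Multiset.lcm_dvd]
      intro a ha
      have h4 : a ∣ 9 := by
        have := Multiset.dvd_lcm ha
        rwa [h1] at this
      have h5 : a ≤ 9 := Nat.le_of_dvd (by norm_num) h4
      have h6 : a ≠ 9 := by rintro rfl; exact h9 ha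
      interval_cases a <;> simp_all (config := { decide := true }) only [_root_.Equiv.Perm.lcm_cycleType, _root_.not_true_eq_false]
    rw [h1] at h3
    norm_num at h3

/-- A permutation of nine points commuting with one of order nine is a power of it. -/
theorem mem_zpowers_of_comm {σ τ : Perm (Fin 9)} (h : orderOf σ = 9) (hc : τ * σ = σ * τ) :
    τ ∈ Subgroup.zpowers σ := by
  have h1 : Subgroup.zpowers σ = Subgroup.centralizer ({σ} : Set (Perm (Fin 9))) := by
    refine Subgroup.eq_of_le_of_card_ge ?_ ?_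
    · rw [Subgroup.zpowers_le, Subgroup.mem_centralizer_singleton_iff]
    · rw [Equiv.Perm.nat_card_centralizer, cycleType_of_nine h, Nat.card_zpowers, h]
      decide
  rw [h1, Subgroup.mem_centralizer_singleton_iff]
  exact hc

/-- A 3-element of `S₉` has order dividing 9. -/
theorem pow_nine_eq_one {σ : Perm (Fin 9)} {k : ℕ} (h : orderOf σ = 3 ^ k) : σ ^ 9 = 1 := by
  rw [← orderOf_dvd_iff_pow_eq_one, ← Equiv.Perm.lcm_cycleType, Multiset.lcm_dvd]
  intro a ha
  have h1 : a ∣ 3 ^ k := by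
    rw [← h, ← Equiv.Perm.lcm_cycleType]
    exact Multiset.dvd_lcm ha
  have h2 : a ≤ 9 := by
    have h3 := Multiset.le_sum_of_mem ha
    rw [Equiv.Perm.sum_cycleType] at h3
    exact h3.trans ((Finset.card_le_univ _).trans (by simp))
  obtain ⟨i, -, rfl⟩ := (Nat.dvd_prime_pow Nat.prime_three).1 h1
  have h3 : i ≤ 2 := by
    by_contra h4
    have : 3 ^ 3 ≤ 3 ^ i := Nat.pow_le_pow_right (by norm_num) (by omega)
    omega
  exact (Nat.pow_dvd_pow 3 h3).trans (by norm_num)

/-! ### 3-elements of a group with a homomorphism to `A₉` with kernel a 2-group -/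

section Hom

variable {C : Type u} [Group C] [Finite C] (f : C →* alternatingGroup (Fin 9)) (hf : IsPGroup 2 f.ker)
include hf

theorem eq_one_of_three {z : C} {k : ℕ} (hz : orderOf z = 3 ^ k) (h1 : f z = 1) : z = 1 := by
  obtain ⟨j, hj⟩ := hf ⟨z, h1⟩
  have hj' : z ^ 2 ^ j = 1 := congrArg Subtype.val hj
  have h2 : orderOf z ∣ 2 ^ j := orderOf_dvd_of_pow_eq_one hj'
  rw [hz] at h2
  have h3 : Nat.Coprime (3 ^ k) (2 ^ j) := Nat.Coprime.pow _ _ (by norm_num)
  have h4 := Nat.Coprime.eq_one_of_dvd h3 h2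
  rw [← hz, orderOf_eq_one_iff] at h4
  exact h4

theorem orderOf_map_three {z : C} {k : ℕ} (hz : orderOf z = 3 ^ k) :
    orderOf (f z : Perm (Fin 9)) = 3 ^ k := by
  rw [Subgroup.orderOf_coe]
  have h1 : orderOf (f z) ∣ 3 ^ k := by rw [← hz]; exact orderOf_map_dvd f z
  obtain ⟨i, hi, h2⟩ := (Nat.dvd_prime_pow Nat.prime_three).1 h1
  rw [h2]
  congr 1
  -- `z ^ 3 ^ i` is in the kernel
  have h3 : z ^ 3 ^ i = 1 := by
    have h4 : orderOf (z ^ 3 ^ i) ∣ 3 ^ k := by rw [← hz]; exact orderOf_pow_dvd _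
    obtain ⟨j, -, h5⟩ := (Nat.dvd_prime_pow Nat.prime_three).1 h4
    refine eq_one_of_three f hf h5 ?_
    rw [map_pow, ← h2, pow_orderOf_eq_one]
  have h4 := orderOf_dvd_of_pow_eq_one h3
  rw [hz] at h4
  exact le_antisymm hi ((Nat.pow_dvd_pow_iff_le_right (by norm_num)).1 h4)

theorem pow_nine {z : C} {k : ℕ} (hz : orderOf z = 3 ^ k) : z ^ 9 = 1 := by
  have h1 := pow_nine_eq_one (orderOf_map_three f hf hz)
  rw [← orderOf_dvd_iff_pow_eq_one, orderOf_map_three f hf hz, ← hz, orderOf_dvd_iff_pow_eq_one] at h1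
  exact h1

/-- commuting 3-elements, one of order 9 -/
theorem mem_zpowers_three {g z : C} {k : ℕ} (hg : orderOf g = 9) (hz : orderOf z = 3 ^ k)
    (hc : z * g = g * z) : z ∈ Subgroup.zpowers g := by
  have h1 : orderOf (f g : Perm (Fin 9)) = 9 := by
    have := orderOf_map_three f hf (z := g) (k := 2) (by rw [hg]; norm_num)
    rw [this]; norm_num
  have h2 : (f z : Perm (Fin 9)) ∈ Subgroup.zpowers (f g : Perm (Fin 9)) := by
    refine mem_zpowers_of_comm h1 ?_
    have := congrArg (fun y => ((f y : alternatingGroup (Fin 9)) : Perm (Fin 9))) hc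
    simpa only [_root_.map_mul, _root_.Subgroup.coe_mul] using this
  obtain ⟨i, hi⟩ := Subgroup.mem_zpowers_iff.1 h2
  have h3 : f (z * g ^ (-i)) = 1 := by
    rw [map_mul, map_zpow]
    apply Subtype.ext
    have : (f z : Perm (Fin 9)) * ((f g : Perm (Fin 9)) ^ (-i)) = 1 := by
      rw [← hi, ← zpow_add, add_neg_cancel, zpow_zero]
    simpa only [_root_.zpow_neg, _root_.Subgroup.coe_mul, _root_.InvMemClass.coe_inv, _root_.SubgroupClass.coe_zpow, _root_.OneMemClass.coe_one] using this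
  have hcomm : Commute z (g ^ (-i)) := (show Commute z g from hc).zpow_right _
  have h4 : (z * g ^ (-i)) ^ 3 ^ (k + 2) = 1 := by
    have hz' : z ^ 3 ^ (k + 2) = 1 := by
      rw [pow_add, pow_mul, ← hz, pow_orderOf_eq_one, one_pow]
    have hg' : (g ^ (-i)) ^ 3 ^ (k + 2) = 1 := by
      have : g ^ (3 ^ (k + 2)) = 1 := orderOf_dvd_iff_pow_eq_one.1 (by rw [hg]; exact ⟨3 ^ k, by ring⟩)
      rw [← zpow_natCast, ← zpow_mul, mul_comm, zpow_mul, zpow_natCast, this, one_zpow]
    rw [hcomm.mul_pow, hz', hg', one_mul]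
  obtain ⟨j, -, hj⟩ := (Nat.dvd_prime_pow Nat.prime_three).1 (orderOf_dvd_of_pow_eq_one h4)
  have h5 := eq_one_of_three f hf hj h3
  rw [Subgroup.mem_zpowers_iff]
  refine ⟨i, ?_⟩
  rw [zpow_neg, mul_inv_eq_one] at h5
  exact h5.symm

end Hom

/-! ### The homomorphism for `Th` -/

theorem exists_hom_centralizer {t : Spor.Th} (ht : orderOf t = 2) :
    ∃ f : Subgroup.centralizer ({t} : Set Spor.Th) →* alternatingGroup (Fin 9), IsPGroup 2 f.ker := by
  obtain ⟨c, hc⟩ := isConj_iff.1 (Cfsg.Agent.MonsterX.ThOneClass.oneClass t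
    (Cfsg.Agent.Th.IndexUpper.gTh 1) ht Cfsg.Agent.MonsterX.ThOneClass.orderOf_a)
  obtain ⟨Q, hn, h1, -, -, ⟨e⟩⟩ := Cfsg.Agent.MonsterX.ThOneClass.struct
  let φ : Subgroup.centralizer ({t} : Set Spor.Th) →*
      Subgroup.centralizer ({Cfsg.Agent.Th.IndexUpper.gTh 1} : Set Spor.Th) :=
    { toFun := fun x => ⟨c * x * c⁻¹, by
        have hx := Subgroup.mem_centralizer_singleton_iff.1 x.2
        rw [Subgroup.mem_centralizer_singleton_iff, ← hc]
        calc c * (x : Spor.Th) * c⁻¹ * (c * t * c⁻¹) = c * (x * t) * c⁻¹ := by group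
          _ = c * (t * x) * c⁻¹ := by rw [hx]
          _ = c * t * c⁻¹ * (c * x * c⁻¹) := by group⟩
      map_one' := Subtype.ext (by simp only [_root_.OneMemClass.coe_one, _root_.mul_one, _root_.mul_inv_cancel])
      map_mul' := fun x y => Subtype.ext (by
        show c * ((x : Spor.Th) * y) * c⁻¹ = c * x * c⁻¹ * (c * y * c⁻¹)
        group) }
  have hφ : Function.Injective φ := by
    intro x y hxy
    have h2 : c * (x : Spor.Th) * c⁻¹ = c * y * c⁻¹ := congrArg Subtype.val hxy
    exact Subtype.ext (mul_left_cancel (mul_right_cancel h2))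
  refine ⟨(e.toMonoidHom.comp (QuotientGroup.mk' Q)).comp φ, ?_⟩
  have hQ : IsPGroup 2 Q := IsPGroup.of_card h1
  rintro ⟨x, hx⟩
  rw [MonoidHom.mem_ker] at hx
  have h3 : φ x ∈ Q := by
    have h4 : e (QuotientGroup.mk' Q (φ x)) = 1 := hx
    have h5 : QuotientGroup.mk' Q (φ x) = 1 := (MulEquiv.map_eq_one_iff e).1 h4
    exact (QuotientGroup.eq_one_iff _).1 h5
  obtain ⟨j, hj⟩ := hQ ⟨φ x, h3⟩
  refine ⟨j, Subtype.ext (hφ ?_)⟩
  have h6 : (φ x) ^ 2 ^ j = 1 := congrArg Subtype.val hj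
  show φ (x ^ 2 ^ j) = φ 1
  rw [map_pow, h6, map_one]

end Cfsg.Agent.H227.IMTh
end

-- part: H227/IMThC
section
/-!
# Itô-Michler for the Thompson group, III: `p = 19` (helper227)
-/

set_option autoImplicit false
set_option linter.unusedSectionVars false

open Cfsg

namespace Cfsg.Agent.H227.IMTh

open Cfsg.Agent.H33 Cfsg.Agent.Blocks.Basic Cfsg.Agent.H665.NoPQ

universe u

theorem pow_conj_pow {G : Type u} [Group G] {x g : G} {k : ℕ} (h : g * x * g⁻¹ = x ^ k) (n : ℕ) :
    g ^ n * x * (g ^ n)⁻¹ = x ^ (k ^ n) := by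
  induction n with
  | zero => simp
  | succ n ih =>
    calc g ^ (n + 1) * x * (g ^ (n + 1))⁻¹ = g * (g ^ n * x * (g ^ n)⁻¹) * g⁻¹ := by
          rw [pow_succ' g n]; group
      _ = g * x ^ (k ^ n) * g⁻¹ := by rw [ih]
      _ = (g * x * g⁻¹) ^ (k ^ n) := by rw [conj_pow]
      _ = x ^ (k ^ (n + 1)) := by rw [h, ← pow_mul, pow_succ']

/-- the power of `k` is determined by the action -/
theorem dvd_of_fix {G : Type u} [Group G] {p : ℕ} [hp : Fact p.Prime] {x : G} (hx : orderOf x = p)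
    {k n : ℕ} (h : x ^ (k ^ n) = x) : orderOf (k : ZMod p) ∣ n := by
  have h1 : k ^ n ≡ 1 [MOD p] := by
    rw [← hx, ← pow_eq_pow_iff_modEq, pow_one]
    exact h
  rw [orderOf_dvd_iff_pow_eq_one]
  have h2 := (ZMod.natCast_eq_natCast_iff (k ^ n) 1 p).2 h1
  push_cast at h2
  exact h2

/-- Frattini: an element normalising `⟨x⟩` may be chosen in `C(t)`, `t` an involution inverting `x`. -/
theorem exists_commuting {G : Type u} [Group G] [Finite G] {p : ℕ} [hp : Fact p.Prime] {x t g : G}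
    (hx : orderOf x = p) (ht : orderOf t = 2) (htx : t * x * t⁻¹ = x⁻¹)
    (hodd : Odd (Nat.card (Subgroup.centralizer ({x} : Set G)))) {k : ℕ} (hk : ¬ p ∣ k)
    (hg : g * x * g⁻¹ = x ^ k) : ∃ g1 : G, g1 * t = t * g1 ∧ g1 * x * g1⁻¹ = x ^ k := by
  have htt := (Cfsg.Agent.H713.orderOf_two ht).1
  set t' := g * t * g⁻¹ with ht'
  have htt' : t' * t' = 1 := by
    calc g * t * g⁻¹ * (g * t * g⁻¹) = g * (t * t) * g⁻¹ := by group
      _ = 1 := by rw [htt]; group
  have hgx : g⁻¹ * x ^ k * g = x := by rw [← hg]; group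
  have h1 : t' * x ^ k * t'⁻¹ = (x ^ k)⁻¹ := by
    calc g * t * g⁻¹ * x ^ k * (g * t * g⁻¹)⁻¹ = g * (t * (g⁻¹ * x ^ k * g) * t⁻¹) * g⁻¹ := by group
      _ = g * x⁻¹ * g⁻¹ := by rw [hgx, htx]
      _ = (g * x * g⁻¹)⁻¹ := by group
      _ = (x ^ k)⁻¹ := by rw [hg]
  have hcop : Nat.Coprime k (orderOf x) := by
    rw [hx]
    exact ((Nat.Prime.coprime_iff_not_dvd hp.out).2 hk).symm
  obtain ⟨j, hj⟩ := exists_pow_eq_self_of_coprime hcop
  have h2 : t' * x * t'⁻¹ = x⁻¹ := by
    have h3 := congrArg (· ^ j) h1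
    simp only [conj_pow, inv_pow] at h3
    rwa [hj] at h3
  have hmem : t * t' ∈ Subgroup.centralizer ({x} : Set G) := by
    rw [Subgroup.mem_centralizer_singleton_iff, ← mul_inv_eq_iff_eq_mul]
    calc t * t' * x * (t * t')⁻¹ = t * (t' * x * t'⁻¹) * t⁻¹ := by group
      _ = (t * x * t⁻¹)⁻¹ := by rw [h2]; group
      _ = x := by rw [htx, inv_inv]
  have hodd' : Odd (orderOf (t * t')) := by
    refine Odd.of_dvd_nat hodd ?_
    rw [← Subgroup.orderOf_mk (t * t') hmem]
    exact orderOf_dvd_natCard _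
  obtain ⟨i, hi⟩ := Cfsg.Agent.H713.conj_of_odd htt htt' hodd'
  set c := (t * t') ^ i with hc
  have hcx : c * x = x * c := Subgroup.mem_centralizer_singleton_iff.1 (Subgroup.pow_mem _ hmem i)
  refine ⟨c⁻¹ * g, ?_, ?_⟩
  · have h3 : c⁻¹ * g * t * (c⁻¹ * g)⁻¹ = t := by
      calc c⁻¹ * g * t * (c⁻¹ * g)⁻¹ = c⁻¹ * (g * t * g⁻¹) * c := by group
        _ = c⁻¹ * (c * t * c⁻¹) * c := by rw [hi]
        _ = t := by group
    exact mul_inv_eq_iff_eq_mul.1 h3
  · have h4 : c⁻¹ * x ^ k * c = x ^ k := by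
      have : Commute c x := hcx
      have h5 := (this.pow_right k).inv_left
      rw [h5.eq]; group
    calc c⁻¹ * g * x * (c⁻¹ * g)⁻¹ = c⁻¹ * (g * x * g⁻¹) * c := by group
      _ = x ^ k := by rw [hg, h4]

/-- `C(t)` has a homomorphism to `A₉` with kernel a 2-group; `N(⟨x⟩)` induces an automorphism of
order divisible by nine; then `3` does not divide `|C(x) ∩ C(t)|`. -/
theorem not_three_dvd {G : Type u} [Group G] [Finite G] {p : ℕ} [hp : Fact p.Prime] {x t g : G}
    (hx : orderOf x = p) (ht : orderOf t = 2) (htx : t * x * t⁻¹ = x⁻¹)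
    (hodd : Odd (Nat.card (Subgroup.centralizer ({x} : Set G)))) {k : ℕ} (hk : ¬ p ∣ k)
    (hk9 : 9 ∣ orderOf (k : ZMod p)) (hg : g * x * g⁻¹ = x ^ k)
    (f : Subgroup.centralizer ({t} : Set G) →* alternatingGroup (Fin 9)) (hf : IsPGroup 2 f.ker) :
    ¬ 3 ∣ Nat.card ↥(Subgroup.centralizer ({x} : Set G) ⊓ Subgroup.centralizer ({t} : Set G)) := by
  intro h3
  have hF3 : Fact (Nat.Prime 3) := ⟨Nat.prime_three⟩
  obtain ⟨g1, hg1t, hg1x⟩ := exists_commuting hx ht htx hodd hk hg
  -- the 3-part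
  obtain ⟨a, n, hn3, hn⟩ := Nat.exists_eq_pow_mul_and_not_dvd (orderOf_pos g1).ne' 3 (by norm_num)
  set g3 := g1 ^ n with hg3
  have hn0 : n ≠ 0 := by rintro rfl; exact hn3 (dvd_zero _)
  have ho3 : orderOf g3 = 3 ^ a := by
    rw [hg3, orderOf_pow, hn, Nat.gcd_mul_left_left, Nat.mul_div_cancel _ (Nat.pos_of_ne_zero hn0)]
  have hact : ∀ i : ℕ, g3 ^ i * x * (g3 ^ i)⁻¹ = x ^ (k ^ (n * i)) := by
    intro i
    rw [hg3, ← pow_mul]
    exact pow_conj_pow hg1x _
  have hfix : ∀ i : ℕ, g3 ^ i * x = x * g3 ^ i → 9 ∣ i := by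
    intro i hi
    have h1 : x ^ (k ^ (n * i)) = x := by
      rw [← hact, hi, mul_inv_cancel_right]
    have h2 := hk9.trans (dvd_of_fix hx h1)
    have h3 : Nat.Coprime 9 n := by
      have : Nat.Coprime 3 n := (Nat.Prime.coprime_iff_not_dvd Nat.prime_three).2 hn3
      exact Nat.Coprime.pow_left 2 this
    exact h3.dvd_of_dvd_mul_left h2
  have hg3t : g3 * t = t * g3 := ((show Commute g1 t from hg1t).pow_left n).eq
  have hg3C : g3 ∈ Subgroup.centralizer ({t} : Set G) := Subgroup.mem_centralizer_singleton_iff.2 hg3t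
  have h9 : g3 ^ 9 = 1 := by
    have h1 := pow_nine f hf (z := ⟨g3, hg3C⟩) (k := a) (by rw [Subgroup.orderOf_mk, ho3])
    exact congrArg Subtype.val h1
  have ho9 : orderOf g3 = 9 := by
    have h1 : orderOf g3 ∣ 9 := orderOf_dvd_of_pow_eq_one h9
    refine Nat.dvd_antisymm h1 (hfix _ ?_)
    rw [pow_orderOf_eq_one, one_mul, mul_one]
  -- the group `K`
  set E : Subgroup G := Subgroup.centralizer ({x} : Set G) ⊓ Subgroup.centralizer ({t} : Set G) with hE
  have hmE : ∀ y : G, y ∈ E ↔ y * x = x * y ∧ y * t = t * y := by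
    intro y
    rw [hE, Subgroup.mem_inf, Subgroup.mem_centralizer_singleton_iff,
      Subgroup.mem_centralizer_singleton_iff]
  set K : Subgroup G := Subgroup.centralizer ({t} : Set G) ⊓
    Subgroup.normalizer (Subgroup.zpowers x : Set G) with hK
  have hDK : E ≤ K := by
    intro y hy
    refine ⟨hy.2, ?_⟩
    have hle : Subgroup.centralizer ((Subgroup.zpowers x : Subgroup G) : Set G) ≤
        Subgroup.normalizer (Subgroup.zpowers x : Set G) := Subgroup.centralizer_le_normalizer _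
    exact hle (by rw [zpow_cent]; exact hy.1)
  have hg3K : g3 ∈ K := by
    refine ⟨hg3C, ?_⟩
    have h1 : (Subgroup.zpowers x).map (MulAut.conj g3).toMonoidHom ≤ Subgroup.zpowers x := by
      rw [MonoidHom.map_zpowers, Subgroup.zpowers_le]
      show g3 * x * g3⁻¹ ∈ _
      have := hact 1
      rw [pow_one] at this
      rw [this]
      exact Subgroup.pow_mem _ (Subgroup.mem_zpowers x) _
    have h2 : (Subgroup.zpowers x).map (MulAut.conj g3).toMonoidHom = Subgroup.zpowers x := by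
      refine Subgroup.eq_of_le_of_card_ge h1 ?_
      rw [Subgroup.card_map_of_injective (MulAut.conj g3).injective]
    show g3 ∈ Subgroup.normalizer (Subgroup.zpowers x : Set G)
    rw [Subgroup.mem_normalizer_iff_map_conj_eq]
    exact h2
  have hRn : (E.subgroupOf K).Normal := by
    refine ⟨fun y hy c => ?_⟩
    rw [Subgroup.mem_subgroupOf, hmE] at hy
    obtain ⟨hyx, hyt⟩ := hy
    have hct := Subgroup.mem_centralizer_singleton_iff.1 c.2.1
    rw [Subgroup.mem_subgroupOf, hmE]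
    refine ⟨?_, ?_⟩
    · -- `c⁻¹ x c` is a power of `x`
      have h1 : (c : G)⁻¹ * x * c ∈ Subgroup.zpowers x := by
        have h2 := (Subgroup.mem_normalizer_iff.1 (Subgroup.inv_mem _ c.2.2) x).1 (Subgroup.mem_zpowers x)
        rwa [inv_inv] at h2
      obtain ⟨i, hi⟩ := Subgroup.mem_zpowers_iff.1 h1
      have h2 : (y : G) * ((c : G)⁻¹ * x * c) = (c : G)⁻¹ * x * c * y := by
        rw [← hi]
        exact ((show Commute (y : G) x from hyx).zpow_right i).eq
      show (c : G) * y * (c : G)⁻¹ * x = x * ((c : G) * y * (c : G)⁻¹)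
      calc (c : G) * y * (c : G)⁻¹ * x = c * (y * ((c : G)⁻¹ * x * c)) * (c : G)⁻¹ := by group
        _ = c * ((c : G)⁻¹ * x * c * y) * (c : G)⁻¹ := by rw [h2]
        _ = x * ((c : G) * y * (c : G)⁻¹) := by group
    · show (c : G) * y * (c : G)⁻¹ * t = t * ((c : G) * y * (c : G)⁻¹)
      have hc' : Commute (c : G) t := hct
      exact ((hc'.mul_left (show Commute (y : G) t from hyt)).mul_left hc'.inv_left).eq
  -- a Sylow 3-subgroup of `K` above `g3`
  have hp3 : IsPGroup 3 (Subgroup.zpowers (⟨g3, hg3K⟩ : K)) := by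
    refine IsPGroup.of_card (n := 2) ?_
    rw [Nat.card_zpowers, Subgroup.orderOf_mk, ho9]
    norm_num
  obtain ⟨S, hS⟩ := hp3.exists_le_sylow
  have hSn : Group.IsNilpotent (S : Subgroup K) := S.isPGroup'.isNilpotent
  set R := E.subgroupOf K with hR
  have hRcard : Nat.card R = Nat.card ↥E := Nat.card_congr (Subgroup.subgroupOfEquivOfLe hDK).toEquiv
  obtain ⟨r, hr⟩ := exists_prime_orderOf_dvd_card' (G := R) 3 (by rw [hRcard]; exact h3)
  -- a conjugate of `r` in `S`
  obtain ⟨c, hc⟩ : ∃ c : K, c * (r : K) * c⁻¹ ∈ (S : Subgroup K) := by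
    have h1 : IsPGroup 3 (Subgroup.zpowers (r : K)) := by
      refine IsPGroup.of_card (n := 1) ?_
      rw [Nat.card_zpowers, Subgroup.orderOf_coe, hr, pow_one]
    obtain ⟨S', hS'⟩ := h1.exists_le_sylow
    obtain ⟨c, hc⟩ := MulAction.exists_smul_eq K S' S
    refine ⟨c, ?_⟩
    rw [← hc]
    exact Subgroup.smul_mem_pointwise_smul _ (MulAut.conj c) _ (hS' (Subgroup.mem_zpowers _))
  have hRS : R.subgroupOf (S : Subgroup K) ≠ ⊥ := by
    intro hbot
    have h1 : (⟨c * r * c⁻¹, hc⟩ : (S : Subgroup K)) ∈ R.subgroupOf (S : Subgroup K) := by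
      rw [Subgroup.mem_subgroupOf]
      exact hRn.conj_mem _ r.2 c
    rw [hbot, Subgroup.mem_bot] at h1
    have h2 : c * (r : K) * c⁻¹ = 1 := congrArg Subtype.val h1
    rw [conj_eq_one_iff] at h2
    have h3 : r = 1 := Subtype.ext h2
    rw [h3, orderOf_one] at hr
    omega
  have hmeet := Cfsg.Agent.Lib.NormalAbelian.normal_inf_center_ne_bot (R.subgroupOf (S : Subgroup K)) hRS
  obtain ⟨⟨z, hz⟩, hz1⟩ := (Subgroup.ne_bot_iff_exists_ne_one).1 hmeet
  have hzR : (z : K) ∈ R := Subgroup.mem_subgroupOf.1 hz.1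
  have hzc := Subgroup.mem_center_iff.1 hz.2 ⟨⟨g3, hg3K⟩, hS (Subgroup.mem_zpowers _)⟩
  have hzg : g3 * ((z : K) : G) = ((z : K) : G) * g3 :=
    congrArg (fun y : (S : Subgroup K) => ((y : K) : G)) hzc
  have hzDC : ((z : K) : G) ∈ E := Subgroup.mem_subgroupOf.1 hzR
  obtain ⟨j, hj⟩ := IsPGroup.iff_orderOf.1 S.isPGroup' z
  rw [← Subgroup.orderOf_coe, ← Subgroup.orderOf_coe] at hj
  have hmem := mem_zpowers_three f hf (g := ⟨g3, hg3C⟩) (z := ⟨((z : K) : G), hzDC.2⟩) (k := j)
    (by rw [Subgroup.orderOf_mk, ho9]) (by rw [Subgroup.orderOf_mk]; exact hj) (Subtype.ext hzg.symm)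
  rw [← mem_powers_iff_mem_zpowers] at hmem
  obtain ⟨i, hi⟩ := hmem
  have hi' : g3 ^ i = ((z : K) : G) := congrArg Subtype.val hi
  have h1 : 9 ∣ i := by
    apply hfix
    rw [hi']
    exact ((hmE _).1 hzDC).1
  obtain ⟨i', rfl⟩ := h1
  rw [pow_mul, h9, one_pow] at hi'
  apply hz1
  apply Subtype.ext
  apply Subtype.ext
  apply Subtype.ext
  exact hi'.symm

end Cfsg.Agent.H227.IMTh
end

-- part: H227/IMThD
section
/-!
# Itô-Michler for the Thompson group, IV: the prime 19 (helper227)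

`im_nineteen`, from the words of helper964: `a` inverts `w` of order 19 and `h w h⁻¹ = w ^ 6`.
-/

set_option autoImplicit false
set_option linter.unusedSectionVars false

open Cfsg

namespace Cfsg.Agent.H227.IMTh

open Cfsg.Agent.H33 Cfsg.Agent.Blocks.Basic Cfsg.Agent.H665.NoPQ Cfsg.Agent.H964.NoHall
  Cfsg.Agent.H713 Cfsg.Agent.H713.Count

universe u

theorem prime19 : Fact (Nat.Prime 19) := ⟨by norm_num⟩

section

attribute [local instance] prime19

theorem list19 : ∀ m : ZMod 19, m ∈ ({1, 6, 17, 7, 4, 5, 11, 9, 16} : Finset (ZMod 19)) →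
    ∃ n < 9, m ≠ 0 ∧ 6 ^ n % 19 = m.val := by decide +kernel

theorem list19_card : (insert 18 ({1, 6, 17, 7, 4, 5, 11, 9, 16} : Finset (ZMod 19))).card = 10 := by decide

theorem ne18 : (18 : ZMod 19) ≠ 0 := by decide

theorem val18 : (18 : ZMod 19).val = 18 := by decide

theorem order_six : orderOf ((6 : ℕ) : ZMod 19) = 9 := by
  have : Fact (Nat.Prime 3) := ⟨Nat.prime_three⟩
  have := orderOf_eq_prime_pow (p := 3) (n := 1) (x := ((6 : ℕ) : ZMod 19)) (by decide) (by decide)
  rw [this]; norm_num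

theorem fus_nineteen {G : Type u} [Group G] [Finite G] {x t g : G} (hx : orderOf x = 19)
    (htx : t * x * t⁻¹ = x⁻¹) (hgx : g * x * g⁻¹ = x ^ 6) : (fus (p := 19) x).card = 18 := by
  have hx19 : x ^ 19 = 1 := by rw [← hx, pow_orderOf_eq_one]
  have h5 : (fus (p := 19) x).card ∣ 18 := ⟨_, (card_fus_mul_card_sing (p := 19) hx19).symm⟩
  have hpow : ∀ n : ℕ, IsConj x (x ^ (6 ^ n)) := fun n => isConj_iff.2 ⟨g ^ n, pow_conj_pow hgx n⟩
  have hinv : IsConj x x⁻¹ := isConj_iff.2 ⟨t, htx⟩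
  have h6 : insert 18 ({1, 6, 17, 7, 4, 5, 11, 9, 16} : Finset (ZMod 19)) ⊆ fus x := by
    intro m hm
    rw [Finset.mem_insert] at hm
    rcases hm with rfl | hm
    · rw [mem_fus]
      refine ⟨ne18, ?_⟩
      rw [val18]
      have h7 : x ^ 18 = x⁻¹ := by
        rw [eq_inv_iff_mul_eq_one, ← pow_succ]
        exact hx19
      rw [h7]
      exact hinv
    · obtain ⟨n, -, hm, h⟩ := list19 m hm
      rw [mem_fus]
      refine ⟨hm, ?_⟩
      have h6 := hpow n
      rw [← pow_mod_orderOf x (6 ^ n), hx, h] at h6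
      exact h6
  have h7 := Finset.card_le_card h6
  rw [list19_card] at h7
  obtain ⟨c, hc⟩ := h5
  have hc2 : c < 2 := by
    by_contra h
    push Not at h
    have := Nat.mul_le_mul h7 h
    omega
  interval_cases c <;> omega

end

theorem arith19_key : ∀ r < 19, (r * 92897280) % 19 = 90745943887872000 / 19 % 19 →
    ∀ b ∈ [1, 5, 7, 35], (18 * (r * b)) % 19 = 90745943887872000 / 19 % 19 → False := by
  decide +kernel

theorem div35 : ∀ b < 36, b ∣ 35 → b ∈ [1, 5, 7, 35] := by decide +kernel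

theorem arith19 {a b : ℕ} (hb : b ∣ 35) (h1 : (18 * (a * b)) % 19 = 90745943887872000 / 19 % 19)
    (h2 : (a * 92897280) % 19 = 90745943887872000 / 19 % 19) : False := by
  refine arith19_key (a % 19) (Nat.mod_lt _ (by norm_num)) ?_ b
    (div35 b (Nat.lt_succ_of_le (Nat.le_of_dvd (by norm_num) hb)) hb) ?_
  · rw [← h2, Nat.mod_mul_mod]
  · exact (((Nat.mod_modEq a 19).mul_right b).mul_left 18).trans h1

open Cfsg.Agent.H723.Spor.Th in
theorem im_nineteen_of {x t g : Spor.Th} (hx : orderOf x = 19) (ht : orderOf t = 2)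
    (htx : t * x * t⁻¹ = x⁻¹) (hgx : g * x * g⁻¹ = x ^ 6) : IM 19 Spor.Th := by
  have hfin := fin_th
  have hp := prime19
  by_contra hno
  have hG1 : (Nat.card Spor.Th).factorization 19 = 1 := by
    rw [card_th]
    exact factorization_eq_one (by norm_num) (by norm_num)
  have hodd : Odd (Nat.card (Subgroup.centralizer ({x} : Set Spor.Th))) := by
    refine odd_centralizer (p := 19) (fun u hu => ?_) hx
    rw [card_inv u hu]
    norm_num
  obtain ⟨a, h1, h2⟩ := Cfsg.Agent.H227.IMPairsP.congr_of_not_IM (by norm_num) hG1 hno hx ht htx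
    (by rw [card_inv t ht]; norm_num) hodd
  obtain ⟨f, hf⟩ := exists_hom_centralizer ht
  have h3 := not_three_dvd hx ht htx hodd (k := 6) (by norm_num) (by rw [order_six]) hgx f hf
  set b := Nat.card ↥(Subgroup.centralizer ({x} : Set Spor.Th) ⊓ Subgroup.centralizer ({t} : Set Spor.Th)) with hb
  have hbm : b ∣ 92897280 := by
    rw [← card_inv t ht, hb]
    exact Subgroup.card_dvd_of_le inf_le_right
  have hbodd : Odd b := by
    refine Odd.of_dvd_nat hodd ?_
    rw [hb]
    exact Subgroup.card_dvd_of_le inf_le_left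
  have hb35 : b ∣ 35 := by
    have h4 : Nat.Coprime b (2 ^ 15 * 3 ^ 4) := Nat.Coprime.mul_right
      (Nat.Coprime.pow_right 15 (Nat.coprime_two_right.2 hbodd))
      (Nat.Coprime.pow_right 4 ((Nat.Prime.coprime_iff_not_dvd Nat.prime_three).2 h3).symm)
    exact h4.dvd_of_dvd_mul_left (by norm_num; exact hbm)
  have h4 := card_fus_mul hG1 hx h1
  rw [fus_nineteen hx htx hgx] at h4
  have h4' : (18 * (a * b)) % 19 = (Nat.card Spor.Th / 19) % 19 := h4
  rw [card_th] at h4' h2
  rw [card_inv t ht] at h2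
  exact arith19 hb35 h4' h2

theorem thA_order : orderOf (thE (.g .a)) = 2 := by
  have : Fact (Nat.Prime 2) := ⟨Nat.prime_two⟩
  refine orderOf_eq_prime ?_ ?_
  · have h := thE_eq thA_2
    rwa [thE_pow, thE_one] at h
  · have h := thE_ne thA_ne
    rwa [thE_one] at h

theorem inv_of_pow {G : Type u} [Group G] {x t : G} {n : ℕ} (hx : x ^ (n + 1) = 1)
    (h : t * x = x ^ n * t) : t * x * t⁻¹ = x⁻¹ := by
  rw [h, mul_inv_cancel_right, eq_inv_iff_mul_eq_one, ← pow_succ, hx]

theorem im_nineteen : IM 19 Spor.Th :=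
  im_nineteen_of thW_order thA_order
    (inv_of_pow (n := 18) (orderOf_dvd_iff_pow_eq_one.1 (dvd_of_eq thW_order)) thA_conj)
    (mul_inv_eq_iff_eq_mul.2 thH_conj)

end Cfsg.Agent.H227.IMTh
end

-- part: H227/IMThG
section
/-!
# Itô-Michler for the Thompson group: `p = 13` (helper227)

If there is no character of defect zero for `13`, then an element `x` of order 13 is inverted by an involution `t`
and `5 ∣ |C(x) ∩ C(t)|`; but the centralizers of the elements of order 5 commuting with an involution have order 3000.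
-/

set_option autoImplicit false

namespace Cfsg.Agent.H227.IMTh

open Subgroup Cfsg Cfsg.Agent.H33 Cfsg.Agent.H713 Cfsg.Agent.H665.NoPQ Cfsg.Agent.H723.Spor.Th

universe u

theorem arith13 (e a b : ℕ) (he : e ∣ 13 - 1) (he2 : Even e) (hb : b ∣ 92897280) (hb2 : Odd b)
    (h1 : (e * (a * b)) % 13 = 90745943887872000 / 13 % 13)
    (h2 : (a * 92897280) % 13 = 90745943887872000 / 13 % 13) : 5 ∣ b := by
  norm_num at h1 h2 he
  have hb' : b ∣ 2835 := by
    have h3 : Nat.Coprime b (2 ^ 15) := Nat.Coprime.pow_right 15 (Nat.coprime_two_right.2 hb2)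
    exact h3.dvd_of_dvd_mul_left (by norm_num; exact hb)
  obtain ⟨b1, b2, hb1, hb3, rfl⟩ : ∃ b1 b2, b1 ∣ 81 ∧ b2 ∣ 35 ∧ b1 * b2 = b := by
    obtain ⟨b1, b2, h3, h4, h5⟩ := (Nat.dvd_mul (m := 81) (n := 35)).1 (by norm_num; exact hb')
    exact ⟨b1, b2, h3, h4, h5⟩
  have hb1m : b1 ∈ [1, 3, 9, 27, 81] := mem_div (by norm_num) hb1 _ (by decide)
  have hb2m : b2 ∈ [1, 5, 7, 35] := mem_div (by norm_num) hb3 _ (by decide)
  have hem : e ∈ [1, 2, 3, 4, 6, 12] := mem_div (by norm_num) he _ (by decide)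
  have ha' : a % 13 = 11 := by
    rw [Nat.mul_mod] at h2
    norm_num at h2
    (clear * - h2; omega)
  have key : ∀ e ∈ [1, 2, 3, 4, 6, 12], ∀ b1 ∈ [1, 3, 9, 27, 81], ∀ b2 ∈ [1, 5, 7, 35],
      e % 2 = 0 → (e * (11 * (b1 * b2))) % 13 = 10 → 5 ∣ b1 * b2 := by decide +kernel
  refine key e hem b1 hb1m b2 hb2m (Nat.even_iff.1 he2) ?_
  rw [← h1, Nat.mul_mod, Nat.mul_mod 11, Nat.mul_mod e, Nat.mul_mod a, ha']

theorem hasDZ_thirteen : HasDZ 13 Spor.Th := by
  have : Fact (Nat.Prime 13) := ⟨by norm_num⟩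
  have : Fact (Nat.Prime 5) := ⟨by norm_num⟩
  have hfin := fin_th
  refine hasDZ_of_card (by norm_num) (by rw [card_th]; exact factorization_eq_one (by norm_num) (by norm_num))
    (by rw [card_th]; norm_num) (m := 92897280) card_inv (by norm_num) ?_
  intro e a b x t hx ht hb he he2 hbm hbo _ _ h1 h2
  rw [card_th] at h1 h2
  have hb5 := arith13 e a b he he2 hbm hbo h1 h2
  rw [← hb] at hb5
  obtain ⟨⟨y, hy⟩, hy5⟩ := exists_prime_orderOf_dvd_card'
    (G := ↥(centralizer ({x} : Set Spor.Th) ⊓ centralizer ({t} : Set Spor.Th))) 5 hb5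
  rw [Subgroup.orderOf_mk] at hy5
  have hyx := mem_centralizer_singleton_iff.1 hy.1
  have hyt := mem_centralizer_singleton_iff.1 hy.2
  have h13 : 13 ∣ Nat.card (centralizer ({y} : Set Spor.Th)) := by
    have hxy : x ∈ centralizer ({y} : Set Spor.Th) := mem_centralizer_singleton_iff.2 hyx.symm
    rw [← hx, ← Subgroup.orderOf_mk x hxy]
    exact _root_.orderOf_dvd_natCard _
  rw [Five.card_five hy5 ht hyt] at h13
  norm_num at h13

theorem im_thirteen : IM 13 Spor.Th := by
  have := fin_th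
  have : Fact (Nat.Prime 13) := ⟨by norm_num⟩
  exact IM_of_hasDZ hasDZ_thirteen (by rw [card_th]; norm_num)

end Cfsg.Agent.H227.IMTh
end

-- part: H227/IMThPart
section
/-!
# Itô-Michler for the Thompson group: all primes except 3 (helper227)
-/

set_option autoImplicit false

open Cfsg

namespace Cfsg.Agent.H227.IMTh

open Cfsg.Agent.H33

universe u

theorem prime_cases {p : ℕ} (hp : p.Prime) (hd : p ∣ 90745943887872000) :
    p = 2 ∨ p = 3 ∨ p = 5 ∨ p = 7 ∨ p = 13 ∨ p = 19 ∨ p = 31 := by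
  rw [show (90745943887872000 : ℕ) = 2 ^ 15 * 3 ^ 10 * 5 ^ 3 * 7 ^ 2 * 13 * 19 * 31 by norm_num] at hd
  simp only [hp.dvd_mul] at hd
  have h : ∀ {q k : ℕ}, q.Prime → p ∣ q ^ k → p = q := fun {q k} hq h1 =>
    (Nat.prime_dvd_prime_iff_eq hp hq).1 (hp.dvd_of_dvd_pow h1)
  rcases hd with (((((h1 | h1) | h1) | h1) | h1) | h1) | h1
  · exact Or.inl (h (by norm_num) h1)
  · exact Or.inr (Or.inl (h (by norm_num) h1))
  · exact Or.inr (Or.inr (Or.inl (h (by norm_num) h1)))
  · exact Or.inr (Or.inr (Or.inr (Or.inl (h (by norm_num) h1))))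
  · exact Or.inr (Or.inr (Or.inr (Or.inr (Or.inl ((Nat.prime_dvd_prime_iff_eq hp (by norm_num)).1 h1)))))
  · exact Or.inr (Or.inr (Or.inr (Or.inr (Or.inr (Or.inl ((Nat.prime_dvd_prime_iff_eq hp (by norm_num)).1 h1))))))
  · exact Or.inr (Or.inr (Or.inr (Or.inr (Or.inr (Or.inr ((Nat.prime_dvd_prime_iff_eq hp (by norm_num)).1 h1))))))

theorem im_model {p : ℕ} (hp : p.Prime) (hd : p ∣ Nat.card Spor.Th) (h3 : p ≠ 3) : IM p Spor.Th := by
  rw [Cfsg.Agent.H723.Spor.Th.card_th] at hd
  rcases prime_cases hp hd with rfl | rfl | rfl | rfl | rfl | rfl | rfl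
  · exact im_two
  · exact absurd rfl h3
  · exact Five.im_five
  · exact im_seven
  · exact im_thirteen
  · exact im_nineteen
  · exact im_thirtyone

/-- **Itô-Michler for the Thompson group, `p ≠ 3`.** -/
theorem im_th_ne_three {S : Type u} [Group S] (h : Cfsg.Spor.IsoTh S) {p : ℕ} [hp : Fact p.Prime]
    (hd : p ∣ Nat.card S) (h3 : p ≠ 3) : IM p S := by
  obtain ⟨e⟩ := h
  have : Finite Spor.Th := fin_th
  have : Finite S := Finite.of_equiv _ e.symm.toEquiv
  rw [Nat.card_congr e.toEquiv] at hd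
  exact IM.of_equiv e (im_model hp.out hd h3)

end Cfsg.Agent.H227.IMTh
end

-- part: H227/IMThK
section
/-!
# Itô-Michler for the Thompson group: `p = 3` (helper227)

`x` of order 5, `I = 25 j` the number of involutions inverting `x`, `j ≤ 24` even and not 0. If no degree is divisible by
3 then `9 ∣ I` (class structure constants), so `j = 18`. Then 18 of the 24 elements of `C(x)/M` are inverted by an
automorphism, and the elements of order 3 of `C(x)/M` are central, a contradiction.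
-/

set_option autoImplicit false
set_option maxRecDepth 100000
set_option linter.unusedSectionVars false

namespace Cfsg.Agent.H227.IMTh.Five

open Subgroup Cfsg
open Cfsg.Agent.Th.Base Cfsg.Agent.Th.Word Cfsg.Agent.Th.RelWords Cfsg.Agent.Th.PermTab
  Cfsg.Agent.Th.KOracle Cfsg.Agent.Th.KPerm Cfsg.Agent.Th.NineAct Cfsg.Agent.Th.CStruct
  Cfsg.Agent.Th.COracleDef Cfsg.Agent.Th.COracleSound
open Cfsg.Agent.KFacts.Th.Mask Cfsg.Agent.KFacts.Th.Struct
open Cfsg.Agent.CpAutTh.Data Cfsg.Agent.CpAutTh.Alt Cfsg.Agent.CpAutTh.RankOne Cfsg.Agent.CpAutTh.Local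
  Cfsg.Agent.CpAutTh.Mid Cfsg.Agent.CpAutTh.ThreePerm Cfsg.Agent.CpAutTh.ThreeE
open Cfsg.Agent.BpSpor.ThCent Cfsg.Agent.BpSpor.ThThree
open Cfsg.Agent.ThFive Cfsg.Agent.ThFive.Five
open Cfsg.Agent.Th.IndexUpper Cfsg.Agent.H723.Spor.Th Cfsg.Agent.H33 Cfsg.Agent.H227.IMPairsP Cfsg.Agent.H502

universe u

/-- an endomorphism inverting at least three quarters of the elements: the elements of order 3 are central. -/
theorem central_of_many {X : Type u} [Group X] [Finite X] (α : X →* X)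
    (hc : 3 * Nat.card X ≤ 4 * Nat.card {x : X // α x = x⁻¹}) {k : X} (hk : k ^ 3 = 1) (y : X) :
    k * y = y * k := by
  classical
  have := Fintype.ofFinite X
  set S : Finset X := Finset.univ.filter fun x => α x = x⁻¹ with hS
  have hSc : Nat.card {x : X // α x = x⁻¹} = S.card := by
    rw [Nat.card_eq_fintype_card, Fintype.card_subtype]
  rw [hSc, Nat.card_eq_fintype_card] at hc
  have hmem : ∀ x, x ∈ S ↔ α x = x⁻¹ := fun x => by simp [hS]
  have hcomm : ∀ x y : X, x ∈ S → y ∈ S → x * y ∈ S → x * y = y * x := by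
    intro x y hx hy hxy
    rw [hmem] at hx hy hxy
    rw [map_mul, hx, hy, mul_inv_rev] at hxy
    have h3 := congrArg (fun y => y⁻¹) hxy
    simp only [mul_inv_rev, inv_inv] at h3
    exact h3.symm
  have hk4 : k = (k ^ 2) ^ 2 := by
    rw [← pow_mul]
    show k = k ^ 4
    rw [pow_succ, hk, one_mul]
  have h1 : ∀ x ∈ S, k ∈ centralizer ({x} : Set X) := by
    intro x hx
    set U : Finset X := S ∩ (Finset.univ.filter fun y => x * y ∈ S) with hU
    have hU2 : (Finset.univ.filter fun y => x * y ∈ S).card = S.card := by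
      refine Finset.card_bij (fun y _ => x * y) ?_ ?_ ?_
      · intro y hy
        exact (Finset.mem_filter.1 hy).2
      · intro y _ y' _ h
        exact mul_left_cancel h
      · intro y hy
        exact ⟨x⁻¹ * y, by rw [Finset.mem_filter]; exact ⟨Finset.mem_univ _, by rwa [mul_inv_cancel_left]⟩,
          by rw [mul_inv_cancel_left]⟩
    have hU3 := Finset.card_union_add_card_inter S (Finset.univ.filter fun y => x * y ∈ S)
    rw [hU2, ← hU] at hU3
    have hU4 : (S ∪ (Finset.univ.filter fun y => x * y ∈ S)).card ≤ Fintype.card X := Finset.card_le_univ _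
    have hU5 : U.card ≤ Nat.card (centralizer ({x} : Set X)) := by
      rw [Nat.card_eq_fintype_card, Fintype.card_subtype]
      refine Finset.card_le_card ?_
      intro y hy
      rw [hU, Finset.mem_inter] at hy
      have hy2 := (Finset.mem_filter.1 hy.2).2
      rw [Finset.mem_filter]
      exact ⟨Finset.mem_univ _, mem_centralizer_singleton_iff.2 (hcomm x y hx hy.1 hy2).symm⟩
    have hidx := (centralizer ({x} : Set X)).card_mul_index
    rw [Nat.card_eq_fintype_card (α := X)] at hidx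
    have hcpos : 0 < Nat.card (centralizer ({x} : Set X)) := Nat.card_pos
    have hi2 : (centralizer ({x} : Set X)).index ≤ 2 := by
      by_contra hlt
      have h3 : 3 ≤ (centralizer ({x} : Set X)).index := by omega
      have h4 := Nat.mul_le_mul_left (Nat.card (centralizer ({x} : Set X))) h3
      omega
    have hi0 : (centralizer ({x} : Set X)).index ≠ 0 := index_ne_zero_of_finite
    have hi : (centralizer ({x} : Set X)).index = 1 ∨ (centralizer ({x} : Set X)).index = 2 := by omega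
    rcases hi with hi | hi
    · rw [index_eq_one.1 hi]
      exact mem_top k
    · rw [hk4]
      exact pow_mem (Subgroup.sq_mem_of_index_two hi k) 2
  -- `S ⊆ C(k)`
  have h2 : S.card ≤ Nat.card (centralizer ({k} : Set X)) := by
    rw [Nat.card_eq_fintype_card, Fintype.card_subtype]
    refine Finset.card_le_card ?_
    intro x hx
    rw [Finset.mem_filter]
    exact ⟨Finset.mem_univ _, mem_centralizer_singleton_iff.2 (mem_centralizer_singleton_iff.1 (h1 x hx)).symm⟩
  have hidx := (centralizer ({k} : Set X)).card_mul_index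
  rw [Nat.card_eq_fintype_card (α := X)] at hidx
  have hcpos : 0 < Nat.card (centralizer ({k} : Set X)) := Nat.card_pos
  have hi2 : (centralizer ({k} : Set X)).index < 2 := by
    by_contra hlt
    have h3 : 2 ≤ (centralizer ({k} : Set X)).index := by omega
    have h4 := Nat.mul_le_mul_left (Nat.card (centralizer ({k} : Set X))) h3
    omega
  have hi0 : (centralizer ({k} : Set X)).index ≠ 0 := index_ne_zero_of_finite
  have hi : (centralizer ({k} : Set X)).index = 1 := by omega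
  have h5 : y ∈ centralizer ({k} : Set X) := by
    rw [index_eq_one.1 hi]
    exact mem_top y
  exact (mem_centralizer_singleton_iff.1 h5).symm

/-- the elements of order 3 of `C(s)` are not central modulo `N`. -/
theorem not_central {H : Type u} [Group H] [Finite H] {s z : H} {N : Subgroup H} (h : _root_.Cfsg.Agent.ThFive.Core s z 5 N)
    (h3 : 3 ∣ Nat.card ↥(centralizer ({s} : Set H)))
    (hc : ∀ k : H, k ^ 3 = 1 → ∀ y : H, k * y * k⁻¹ * y⁻¹ ∈ N) : False := by
  have h3F : Fact (Nat.Prime 3) := ⟨Nat.prime_three⟩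
  obtain ⟨k, hk⟩ := exists_prime_orderOf_dvd_card' 3 h3
  have hk3 : k ^ 3 = 1 := by rw [← hk, pow_orderOf_eq_one]
  have hk3' : (k : H) ^ 3 = 1 := congrArg Subtype.val hk3
  have hcen : ∀ y : ↥(centralizer ({s} : Set H)), k * y = y * k := by
    intro y
    have h1 : (k : H) * y * (k : H)⁻¹ * (y : H)⁻¹ ∈ zpowers z :=
      h.inf ⟨hc _ hk3' y, mul_mem (mul_mem (mul_mem k.2 y.2) (Subgroup.inv_mem _ k.2)) (Subgroup.inv_mem _ y.2)⟩
    set c := (k : H) * y * (k : H)⁻¹ * (y : H)⁻¹ with hcdef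
    have h2 : (y : H) * (k : H)⁻¹ * (y : H)⁻¹ = (k : H)⁻¹ * c := by rw [hcdef]; group
    have h4 : Commute ((k : H)⁻¹) c := h.toSit.zc_comm h1 _
    have h5 : ((k : H)⁻¹ * c) ^ 3 = 1 := by
      rw [← h2, conj_pow, inv_pow, hk3', inv_one, mul_one, mul_inv_cancel]
    rw [h4.mul_pow, inv_pow, hk3', inv_one, one_mul] at h5
    have h6 : c = 1 := by
      have h7 := h.toSit.c_pow h1
      have h8 : c = (c ^ 3) ^ 2 * (c ^ 5)⁻¹ := by group
      rw [h8, h5, h7]; group
    rw [h6] at hcdef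
    apply Subtype.ext
    rw [Subgroup.coe_mul, Subgroup.coe_mul]
    calc (k : H) * y = ((k : H) * y * (k : H)⁻¹ * (y : H)⁻¹) * (y * k) := by group
      _ = y * k := by rw [← hcdef, one_mul]
  have hn : (zpowers k).Normal := by
    refine ⟨fun x hx g => ?_⟩
    obtain ⟨i, rfl⟩ := mem_zpowers_iff.1 hx
    have h1 : Commute g (k ^ i) := (show Commute g k from (hcen g).symm).zpow_right i
    rw [h1.eq, mul_inv_cancel_right]
    exact hx
  have h1 := h.toSit.odd (zpowers k) hn (by rw [Nat.card_zpowers, hk]; decide)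
  rw [Nat.card_zpowers, hk] at h1
  norm_num at h1

/-- `I ≤ 25 |S|`, `S` the set of inverted elements of `H/N`. -/
theorem le_of_inv {N : Subgroup ↥(centralizer ({ev gTh X5} : Set Spor.Th))} [hNn : N.Normal]
    {M : Subgroup Spor.Th} (hM : Mid M) (hNM : N.map (centralizer ({ev gTh X5} : Set Spor.Th)).subtype = M)
    (hI : 0 < numInv (gTh 1) x5) :
    ∃ α : (↥(centralizer ({ev gTh X5} : Set Spor.Th)) ⧸ N) →* (↥(centralizer ({ev gTh X5} : Set Spor.Th)) ⧸ N),
      numInv (gTh 1) x5 ≤ 25 * Nat.card {q : ↥(centralizer ({ev gTh X5} : Set Spor.Th)) ⧸ N // α q = q⁻¹} := by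
  classical
  have hfin := fin_th
  have := Fintype.ofFinite Spor.Th
  have hc := hM.cnt
  have : Nonempty {g : Spor.Th // IsConj (gTh 1) g ∧ g * x5 * g⁻¹ = x5⁻¹} := by
    by_contra hne
    rw [not_nonempty_iff] at hne
    have : numInv (gTh 1) x5 = 0 := Nat.card_of_isEmpty
    omega
  obtain ⟨g0, hg0c, hg0⟩ := this
  have hg0x : x5 * g0⁻¹ = g0⁻¹ * x5⁻¹ := by
    rw [← hg0]; group
  -- conjugation by `g0`
  have hcl : ∀ q : Spor.Th, q ∈ centralizer ({ev gTh X5} : Set Spor.Th) →
      g0 * q * g0⁻¹ ∈ centralizer ({ev gTh X5} : Set Spor.Th) := by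
    intro q hq
    have hq' : q * x5 = x5 * q := mem_centralizer_singleton_iff.1 hq
    have hqi : q * x5⁻¹ = x5⁻¹ * q := (show Commute q x5 from hq').inv_right
    rw [mem_centralizer_singleton_iff]
    show g0 * q * g0⁻¹ * x5 = x5 * (g0 * q * g0⁻¹)
    have hgi : g0 * x5⁻¹ * g0⁻¹ = x5 := by
      calc g0 * x5⁻¹ * g0⁻¹ = (g0 * x5 * g0⁻¹)⁻¹ := by group
        _ = x5 := by rw [hg0, inv_inv]
    calc g0 * q * g0⁻¹ * x5 = g0 * q * g0⁻¹ * (g0 * x5⁻¹ * g0⁻¹) := by rw [hgi]
      _ = g0 * (q * x5⁻¹) * g0⁻¹ := by group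
      _ = g0 * x5⁻¹ * g0⁻¹ * (g0 * q * g0⁻¹) := by rw [hqi]; group
      _ = x5 * (g0 * q * g0⁻¹) := by rw [hgi]
  let αH : ↥(centralizer ({ev gTh X5} : Set Spor.Th)) →* ↥(centralizer ({ev gTh X5} : Set Spor.Th)) :=
    { toFun := fun q => ⟨g0 * q.1 * g0⁻¹, hcl q.1 q.2⟩
      map_one' := Subtype.ext (by simp)
      map_mul' := fun a b => Subtype.ext (by
        show g0 * (a.1 * b.1) * g0⁻¹ = (g0 * a.1 * g0⁻¹) * (g0 * b.1 * g0⁻¹)
        group) }
  have hmemN : ∀ q : ↥(centralizer ({ev gTh X5} : Set Spor.Th)), q ∈ N ↔ (q : Spor.Th) ∈ M := by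
    intro q
    rw [← hNM]
    constructor
    · intro hq
      exact ⟨q, hq, rfl⟩
    · rintro ⟨q', hq', h⟩
      rwa [← (Subtype.ext h : q' = q)]
  have hαN : N ≤ ((QuotientGroup.mk' N).comp αH).ker := by
    intro q hq
    refine MonoidHom.mem_ker.2 ((QuotientGroup.eq_one_iff _).2 ?_)
    rw [hmemN]
    exact hc.nrm g0 hg0 _ ((hmemN q).1 hq)
  refine ⟨QuotientGroup.lift N ((QuotientGroup.mk' N).comp αH) hαN, ?_⟩
  set α := QuotientGroup.lift N ((QuotientGroup.mk' N).comp αH) hαN with hα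
  have hFX : Fintype (↥(centralizer ({ev gTh X5} : Set Spor.Th)) ⧸ N) := Fintype.ofFinite _
  set S : Finset (↥(centralizer ({ev gTh X5} : Set Spor.Th)) ⧸ N) := Finset.univ.filter fun q => α q = q⁻¹ with hS
  have hSc : Nat.card {q : ↥(centralizer ({ev gTh X5} : Set Spor.Th)) ⧸ N // α q = q⁻¹} = S.card := by
    rw [Nat.card_eq_fintype_card, Fintype.card_subtype]
  have hg0g0 : g0 * g0 = 1 := sq_of_isConj (by rw [← pow_two, ← order_one, pow_orderOf_eq_one]) hg0c
  have hg0i : g0⁻¹ = g0 := inv_eq_of_mul_eq_one_right hg0g0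
  set T : Finset {g : Spor.Th // IsConj (gTh 1) g ∧ g * x5 * g⁻¹ = x5⁻¹} := Finset.univ with hT
  have hnum : numInv (gTh 1) x5 = T.card := by
    unfold numInv
    rw [Nat.card_eq_fintype_card, hT, Finset.card_univ]
  have hmemC : ∀ g : {g : Spor.Th // IsConj (gTh 1) g ∧ g * x5 * g⁻¹ = x5⁻¹},
      g0⁻¹ * g.1 ∈ centralizer ({ev gTh X5} : Set Spor.Th) := by
    intro g
    rw [mem_centralizer_singleton_iff]
    show g0⁻¹ * g.1 * x5 = x5 * (g0⁻¹ * g.1)
    have h1 : g.1 * x5 = x5⁻¹ * g.1 := mul_inv_eq_iff_eq_mul.1 g.2.2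
    calc g0⁻¹ * g.1 * x5 = g0⁻¹ * (g.1 * x5) := by group
      _ = (g0⁻¹ * x5⁻¹) * g.1 := by rw [h1]; group
      _ = x5 * (g0⁻¹ * g.1) := by rw [← hg0x]; group
  let f : {g : Spor.Th // IsConj (gTh 1) g ∧ g * x5 * g⁻¹ = x5⁻¹} →
      (↥(centralizer ({ev gTh X5} : Set Spor.Th)) ⧸ N) := fun g => QuotientGroup.mk' N ⟨g0⁻¹ * g.1, hmemC g⟩
  rw [hnum, hSc]
  refine Finset.card_le_mul_card_image_of_maps_to (f := f) ?_ 25 ?_
  · intro g _
    have hgg : g.1 * g.1 = 1 := sq_of_isConj (by rw [← pow_two, ← order_one, pow_orderOf_eq_one]) g.2.1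
    rw [hS, Finset.mem_filter]
    refine ⟨Finset.mem_univ _, ?_⟩
    show α (QuotientGroup.mk' N ⟨g0⁻¹ * g.1, hmemC g⟩) = (QuotientGroup.mk' N ⟨g0⁻¹ * g.1, hmemC g⟩)⁻¹
    rw [hα, QuotientGroup.mk'_apply, QuotientGroup.lift_mk]
    rw [eq_inv_iff_mul_eq_one]
    show QuotientGroup.mk' N (αH ⟨g0⁻¹ * g.1, hmemC g⟩) * QuotientGroup.mk' N ⟨g0⁻¹ * g.1, hmemC g⟩ = 1
    rw [← map_mul]
    have h1 : αH ⟨g0⁻¹ * g.1, hmemC g⟩ * ⟨g0⁻¹ * g.1, hmemC g⟩ = 1 := by
      apply Subtype.ext
      show g0 * (g0⁻¹ * g.1) * g0⁻¹ * (g0⁻¹ * g.1) = 1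
      calc g0 * (g0⁻¹ * g.1) * g0⁻¹ * (g0⁻¹ * g.1) = g.1 * (g0 * g0)⁻¹ * g.1 := by group
        _ = 1 := by rw [hg0g0, inv_one, mul_one, hgg]
    rw [h1, map_one]
  · intro b _
    rcases (T.filter fun g => f g = b).eq_empty_or_nonempty with he | ⟨g1, hg1⟩
    · rw [he]; simp
    · have hg1b : f g1 = b := (Finset.mem_filter.1 hg1).2
      have hg1g1 : g1.1 * g1.1 = 1 := sq_of_isConj (by rw [← pow_two, ← order_one, pow_orderOf_eq_one]) g1.2.1
      have hg1i : g1.1⁻¹ = g1.1 := inv_eq_of_mul_eq_one_right hg1g1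
      rw [← hc.card_inverted g1.2.2 hg1g1, ← Fintype.card_coe, ← Nat.card_eq_fintype_card]
      have key : ∀ g : ↥(T.filter fun g => f g = b), g1.1⁻¹ * g.1.1 ∈ M ∧
          g1.1 * (g1.1⁻¹ * g.1.1) * g1.1⁻¹ = (g1.1⁻¹ * g.1.1)⁻¹ := by
        intro g
        have hgb : f g.1 = b := (Finset.mem_filter.1 g.2).2
        have hgg : g.1.1 * g.1.1 = 1 := sq_of_isConj (by rw [← pow_two, ← order_one, pow_orderOf_eq_one]) g.1.2.1
        have hgi : g.1.1⁻¹ = g.1.1 := inv_eq_of_mul_eq_one_right hgg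
        constructor
        · have h1 : f g1 = f g.1 := hg1b.trans hgb.symm
          have h2 := QuotientGroup.eq.1 h1
          rw [hmemN] at h2
          have h3 : (g0⁻¹ * g1.1)⁻¹ * (g0⁻¹ * g.1.1) = g1.1⁻¹ * g.1.1 := by group
          rw [← h3]
          exact h2
        · rw [mul_inv_cancel_left, mul_inv_rev, inv_inv, hgi, hg1i]
      refine Nat.card_le_card_of_injective (fun g => (⟨g1.1⁻¹ * g.1.1, key g⟩ :
        {m : Spor.Th // m ∈ M ∧ g1.1 * m * g1.1⁻¹ = m⁻¹})) ?_
      intro g g' hgg'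
      have h1 : g1.1⁻¹ * g.1.1 = g1.1⁻¹ * g'.1.1 := congrArg Subtype.val hgg'
      exact Subtype.ext (Subtype.ext (mul_left_cancel h1))

theorem key3 : ∀ j < 25, Even (25 * j) → 0 < 25 * j → 3 ^ 10 ∣ (25 * j) * 92897280 ^ 2 → j = 18 := by
  decide +kernel

theorem fac_three : (Nat.card Spor.Th).factorization 3 = 10 := by
  rw [card_th, show (90745943887872000 : ℕ) = 3 ^ 10 * 1536790528000 by norm_num,
    Nat.factorization_mul (by norm_num) (by norm_num), Nat.Prime.factorization_pow (by norm_num)]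
  simp [Nat.factorization_eq_zero_of_not_dvd (show ¬ 3 ∣ 1536790528000 by decide)]

/-- there is an involution inverting `x5` -/
theorem inv_pos {M : Subgroup Spor.Th} (hM : Mid M) : 0 < numInv (gTh 1) x5 := by
  have hfin := fin_th
  have h2F : Fact (Nat.Prime 2) := ⟨Nat.prime_two⟩
  obtain ⟨g, hg⟩ := z_conj
  have hw : g * ThFiveP.w * g⁻¹ * x5 * (g * ThFiveP.w * g⁻¹)⁻¹ = x5⁻¹ := by
    have hwz := ThFiveP.wz
    have h2 : ThFiveP.w * ThFiveP.z * ThFiveP.w⁻¹ = ThFiveP.z⁻¹ := by
      rw [inv_eq_of_mul_eq_one_right ThFiveP.ww, eq_inv_iff_mul_eq_one, mul_assoc]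
      exact hwz
    rw [← hg]
    calc g * ThFiveP.w * g⁻¹ * (g * ThFiveP.z * g⁻¹) * (g * ThFiveP.w * g⁻¹)⁻¹ =
        g * (ThFiveP.w * ThFiveP.z * ThFiveP.w⁻¹) * g⁻¹ := by group
      _ = (g * ThFiveP.z * g⁻¹)⁻¹ := by rw [h2]; group
  have h2 : orderOf (g * ThFiveP.w * g⁻¹) = 2 := by
    have : orderOf ThFiveP.w = 2 := orderOf_eq_prime (by rw [pow_two, ThFiveP.ww]) ThFiveP.w1
    rw [← this]
    exact MulEquiv.orderOf_eq (MulAut.conj g) ThFiveP.w
  have : Nonempty {g : Spor.Th // IsConj (gTh 1) g ∧ g * x5 * g⁻¹ = x5⁻¹} :=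
    ⟨⟨_, hM.cnt.cls _ h2, hw⟩⟩
  exact Nat.card_pos

theorem num_eq (hno : ¬ IM 3 Spor.Th) {M : Subgroup Spor.Th} (hM : Mid M) : numInv (gTh 1) x5 = 25 * 18 := by
  have hfin := fin_th
  have h3F : Fact (Nat.Prime 3) := ⟨Nat.prime_three⟩
  obtain ⟨j, hj, hj24⟩ := hM.cnt.exists_card
  have hev := hM.cnt.even_card order_one x5_comm.symm
  have h1 := dvd_numInv_of_not_IM (p := 3) hno (t := gTh 1) (z := x5)
    (by rw [← pow_two, ← order_one, pow_orderOf_eq_one]) (by rw [order_x5]; decide)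
  have hpos := inv_pos hM
  rw [fac_three, card_inv _ order_one, hj] at h1
  rw [hj] at hev hpos ⊢
  rw [key3 j (Nat.lt_succ_of_le hj24) hev hpos h1]

theorem im_three : IM 3 Spor.Th := by
  have hfin := fin_th
  by_contra hno
  obtain ⟨M, hM⟩ := exists_Mid
  have hnum := num_eq hno hM
  have hpos := inv_pos hM
  -- the quotient
  obtain ⟨f, F⟩ := CpAutTh.Local.exists_epi KFacts.Th.Main.ctx
  obtain ⟨N, hN⟩ := (sit5 KFacts.Th.Main.ctx F).core
  have hNn := hN.normal
  have hNc : Nat.card N = 125 := card_N hN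
  have hH : Nat.card ↥(centralizer ({ev gTh X5} : Set Spor.Th)) = 3000 := card_x5
  have hNM : N.map (centralizer ({ev gTh X5} : Set Spor.Th)).subtype = M := by
    refine eq_of_le_of_card_ge ?_ (by
      rw [hM.card, card_map_of_injective (subtype_injective _), hNc])
    rintro _ ⟨n, hn, rfl⟩
    refine hM.max _ (mem_centralizer_singleton_iff.1 n.2) 3 ?_
    have h2 := hN.pow_card hn
    rw [hNc] at h2
    exact congrArg Subtype.val h2
  obtain ⟨α, hα⟩ := le_of_inv hM hNM hpos
  have hX : Nat.card (↥(centralizer ({ev gTh X5} : Set Spor.Th)) ⧸ N) = 24 := by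
    have h3 := card_eq_card_quotient_mul_card_subgroup N
    rw [hH, hNc] at h3
    omega
  refine not_central hN (by rw [card_cent_s KFacts.Th.Main.ctx F]; norm_num) fun k hk y => ?_
  have h2 := central_of_many α (by
    rw [hX]
    rw [hnum] at hα
    omega) (k := QuotientGroup.mk' N k) (by rw [← map_pow, hk, map_one]) (QuotientGroup.mk' N y)
  refine (QuotientGroup.eq_one_iff _).1 (?_ : QuotientGroup.mk' N (k * y * k⁻¹ * y⁻¹) = 1)
  rw [map_mul, map_mul, map_mul, h2, map_inv, map_inv, mul_inv_cancel_right, mul_inv_cancel]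

end Cfsg.Agent.H227.IMTh.Five
end

-- part: H227/IMTh
section
/-!
# Itô-Michler for the Thompson group (helper227)
-/

set_option autoImplicit false

open Cfsg

namespace Cfsg.Agent.H227.IMTh

open Cfsg.Agent.H33

universe u

/-- **Itô-Michler for the Thompson group.** -/
theorem im_th {S : Type u} [Group S] (h : Cfsg.Spor.IsoTh S) {p : ℕ} [Fact p.Prime] (hp : p ∣ Nat.card S) :
    Cfsg.Agent.H33.IM p S := by
  by_cases h3 : p = 3
  · subst h3
    obtain ⟨e⟩ := h
    have : Finite Spor.Th := fin_th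
    have : Finite S := Finite.of_equiv _ e.symm.toEquiv
    exact IM.of_equiv e Five.im_three
  · exact im_th_ne_three h hp h3

end Cfsg.Agent.H227.IMTh
end
end
end
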