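import Cfsg.Prelude.Def_LocalStructure
import Cfsg.Agent.Lib.Cores
set_option linter.all false

/-!
# Weakly closed subgroups

Basic facts on `Cfsg.IsWeaklyClosedSubgroup p Q` for a `p`-subgroup `Q` of a finite group `H`:
the equivalent forms, inheritance by overgroups, the factorisation of normal subgroups.
-/

set_option autoImplicit false
set_option linter.unusedSectionVars false

namespace Cfsg.Agent.H227.Weak

open Subgroup Cfsg
open scoped commutatorElement

variable {H : Type*} [Group H]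

/-- the conjugate `g Q g⁻¹` -/
abbrev cj (g : H) (Q : Subgroup H) : Subgroup H := Q.map (MulAut.conj g).toMonoidHom

theorem mem_cj {g x : H} {Q : Subgroup H} : x ∈ cj g Q ↔ g⁻¹ * x * g ∈ Q := by
  constructor
  · rintro ⟨y, hy, rfl⟩
    simpa [MulAut.conj_apply, mul_assoc] using hy
  · intro h
    exact ⟨g⁻¹ * x * g, h, by simp [MulAut.conj_apply, mul_assoc]⟩

theorem conj_mem_cj {g x : H} {Q : Subgroup H} (hx : x ∈ Q) : g * x * g⁻¹ ∈ cj g Q :=
  mem_cj.2 (by simpa [mul_assoc] using hx)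

theorem cj_cj (g h : H) (Q : Subgroup H) : cj g (cj h Q) = cj (g * h) Q := by
  ext x
  simp only [mem_cj, mul_inv_rev, mul_assoc]

theorem cj_one (Q : Subgroup H) : cj 1 Q = Q := by
  ext x; simp

theorem cj_mono (g : H) {Q R : Subgroup H} (h : Q ≤ R) : cj g Q ≤ cj g R :=
  Subgroup.map_mono h

theorem cj_inv_cj (g : H) (Q : Subgroup H) : cj g⁻¹ (cj g Q) = Q := by
  rw [cj_cj, inv_mul_cancel, cj_one]

theorem cj_cj_inv (g : H) (Q : Subgroup H) : cj g (cj g⁻¹ Q) = Q := by
  rw [cj_cj, mul_inv_cancel, cj_one]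

theorem cj_le_iff {g : H} {Q R : Subgroup H} : cj g Q ≤ R ↔ Q ≤ cj g⁻¹ R :=
  ⟨fun h => by simpa only [cj_inv_cj] using cj_mono g⁻¹ h,
    fun h => by simpa only [cj_cj_inv] using cj_mono g h⟩

theorem cj_eq_iff {g : H} {Q R : Subgroup H} : cj g Q = R ↔ Q = cj g⁻¹ R :=
  ⟨fun h => by rw [← h, cj_inv_cj], fun h => by rw [h, cj_cj_inv]⟩

theorem cj_le_cj_iff {g : H} {Q R : Subgroup H} : cj g Q ≤ cj g R ↔ Q ≤ R := by
  rw [cj_le_iff, cj_inv_cj]

theorem cj_inj {g : H} {Q R : Subgroup H} : cj g Q = cj g R ↔ Q = R := by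
  rw [cj_eq_iff, cj_inv_cj]

theorem cj_eq_self_iff {g : H} {Q : Subgroup H} : cj g Q = Q ↔ g ∈ normalizer (Q : Set H) := by
  rw [mem_normalizer_iff]
  constructor
  · intro h x
    constructor
    · intro hx
      rw [← h]
      exact conj_mem_cj hx
    · intro hx
      change g * x * g⁻¹ ∈ Q at hx
      rw [← h, mem_cj] at hx
      simpa [mul_assoc] using hx
  · intro h
    ext x
    rw [mem_cj]
    have := h (g⁻¹ * x * g)
    simpa [mul_assoc] using this

theorem cj_eq_self_of_mem {g : H} {Q : Subgroup H} (hg : g ∈ Q) : cj g Q = Q :=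
  cj_eq_self_iff.2 (le_normalizer hg)

theorem cj_normal (g : H) (N : Subgroup H) [hN : N.Normal] : cj g N = N := by
  rw [cj_eq_self_iff, normalizer_eq_top]
  trivial

theorem cj_inf (g : H) (Q R : Subgroup H) : cj g (Q ⊓ R) = cj g Q ⊓ cj g R := by
  ext x
  simp only [mem_inf, mem_cj]

theorem cj_sup (g : H) (Q R : Subgroup H) : cj g (Q ⊔ R) = cj g Q ⊔ cj g R :=
  Subgroup.map_sup _ _ _

theorem cj_commutator (g : H) (Q R : Subgroup H) : cj g ⁅Q, R⁆ = ⁅cj g Q, cj g R⁆ :=
  Subgroup.map_commutator _ _ _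

theorem cj_normalizer (g : H) (Q : Subgroup H) :
    cj g (normalizer (Q : Set H)) = normalizer ((cj g Q : Subgroup H) : Set H) := by
  ext x
  rw [mem_cj, ← cj_eq_self_iff, ← cj_eq_self_iff, cj_cj]
  constructor
  · intro h
    rw [← cj_inj (g := g⁻¹), cj_cj, cj_inv_cj, ← mul_assoc]
    exact h
  · intro h
    rw [← cj_inj (g := g⁻¹), cj_cj, cj_inv_cj, ← mul_assoc] at h
    exact h

theorem isPGroup_cj {p : ℕ} {Q : Subgroup H} (hQ : IsPGroup p Q) (g : H) : IsPGroup p (cj g Q) :=
  hQ.map _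

theorem le_normalizer_cj {g : H} {Q R : Subgroup H} (h : R ≤ normalizer (Q : Set H)) :
    cj g R ≤ normalizer ((cj g Q : Subgroup H) : Set H) := by
  rw [← cj_normalizer]
  exact cj_mono g h

/-- `[Q, R] ≤ Q` when `R` normalizes `Q` -/
theorem commutator_le_of_le_normalizer {Q R : Subgroup H} (h : R ≤ normalizer (Q : Set H)) :
    ⁅Q, R⁆ ≤ Q := by
  rw [commutator_le]
  intro q hq r hr
  have h1 : r * q⁻¹ * r⁻¹ ∈ Q := (mem_normalizer_iff.1 (h hr) q⁻¹).1 (Q.inv_mem hq)
  have : ⁅q, r⁆ = q * (r * q⁻¹ * r⁻¹) := by rw [commutatorElement_def]; group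
  rw [this]
  exact Q.mul_mem hq h1

theorem commutator_le_of_le_normalizer' {Q R : Subgroup H} (h : R ≤ normalizer (Q : Set H)) :
    ⁅R, Q⁆ ≤ Q := by
  rw [commutator_comm]
  exact commutator_le_of_le_normalizer h

/-- `R` normalizes `Q` when `[Q, R] ≤ Q` -/
theorem le_normalizer_of_commutator_le {Q R : Subgroup H} (h : ⁅Q, R⁆ ≤ Q) :
    R ≤ normalizer (Q : Set H) := by
  have key : ∀ r ∈ R, ∀ q ∈ Q, r * q * r⁻¹ ∈ Q := by
    intro r hr q hq
    have h1 : ⁅q⁻¹, r⁆ ∈ Q := h (commutator_mem_commutator (Q.inv_mem hq) hr)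
    have h2 : r * q * r⁻¹ = q * ⁅q⁻¹, r⁆ := by rw [commutatorElement_def]; group
    rw [h2]
    exact Q.mul_mem hq h1
  intro r hr
  rw [mem_normalizer_iff]
  intro q
  refine ⟨key r hr q, fun hq => ?_⟩
  have := key r⁻¹ (R.inv_mem hr) _ hq
  simpa [mul_assoc] using this

theorem commutator_le_iff_le_normalizer {Q R : Subgroup H} :
    ⁅Q, R⁆ ≤ Q ↔ R ≤ normalizer (Q : Set H) :=
  ⟨le_normalizer_of_commutator_le, commutator_le_of_le_normalizer⟩

section fin

variable [Finite H] {p : ℕ} [Fact p.Prime]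

/-- Two `p`-subgroups: the second is conjugate into a Sylow subgroup containing the first. -/
theorem exists_cj_le_sylow (T : Sylow p H) {R : Subgroup H} (hR : IsPGroup p R) :
    ∃ g : H, cj g R ≤ (T : Subgroup H) := by
  obtain ⟨S, hS⟩ := hR.exists_le_sylow
  obtain ⟨g, hg⟩ := MulAction.exists_smul_eq H S T
  refine ⟨g, ?_⟩
  have : cj g (S : Subgroup H) = (T : Subgroup H) := by
    rw [← hg]; rfl
  rw [← this]
  exact cj_mono g hS

/-- A conjugation between two Sylow subgroups of a subgroup `K`. -/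
theorem exists_mem_cj_eq {K : Subgroup H} (S S' : Sylow p K) :
    ∃ k ∈ K, cj k ((S : Subgroup K).map K.subtype) = (S' : Subgroup K).map K.subtype := by
  obtain ⟨g, hg⟩ := MulAction.exists_smul_eq K S S'
  refine ⟨g, g.2, ?_⟩
  rw [← hg]
  ext x
  rw [mem_cj]
  constructor
  · rintro ⟨y, hy, hyx⟩
    refine ⟨g * y * g⁻¹, ?_, ?_⟩
    · exact ⟨y, hy, rfl⟩
    · simp only [coe_subtype] at hyx
      simp [hyx, mul_assoc]
  · rintro ⟨y, ⟨z, hz, rfl⟩, rfl⟩
    refine ⟨z, hz, ?_⟩
    simp [mul_assoc]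

theorem sylow_map_isPGroup {K : Subgroup H} (S : Sylow p K) :
    IsPGroup p ((S : Subgroup K).map K.subtype) := S.isPGroup'.map _

/-- A `p`-subgroup of `K` lies in (the image of) a Sylow `p`-subgroup of `K`. -/
theorem exists_le_sylow_map {K R : Subgroup H} (hR : IsPGroup p R) (hRK : R ≤ K) :
    ∃ S : Sylow p K, R ≤ (S : Subgroup K).map K.subtype := by
  have h1 : IsPGroup p (R.subgroupOf K) := hR.comap_of_injective _ K.subtype_injective
  obtain ⟨S, hS⟩ := h1.exists_le_sylow
  refine ⟨S, ?_⟩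
  rw [← Subgroup.map_subgroupOf_eq_of_le hRK]
  exact Subgroup.map_mono hS

/-- The third form: the same in every `p`-subgroup -/
theorem eq_of_le {Q : Subgroup H} (hwc : IsWeaklyClosedSubgroup p Q) {R : Subgroup H}
    (hR : IsPGroup p R) (hQR : Q ≤ R) {g : H} (hg : cj g Q ≤ R) : cj g Q = Q := by
  obtain ⟨T, hQT, hT⟩ := hwc
  obtain ⟨x, hx⟩ := exists_cj_le_sylow T hR
  have h1 : cj x Q = Q := hT x ((cj_mono x hQR).trans hx)
  have h2 : cj (x * g) Q = Q := by
    refine hT (x * g) ?_
    have := (cj_mono x hg).trans hx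
    rwa [cj_cj] at this
  rw [← cj_cj] at h2
  rw [← cj_inj (g := x), h2, h1]

theorem of_forall_eq {Q : Subgroup H} (hQ : IsPGroup p Q)
    (h : ∀ R : Subgroup H, IsPGroup p R → Q ≤ R → ∀ g : H, cj g Q ≤ R → cj g Q = Q) :
    IsWeaklyClosedSubgroup p Q := by
  obtain ⟨T, hT⟩ := hQ.exists_le_sylow
  exact ⟨T, hT, fun g hg => h T T.isPGroup' hT g hg⟩

theorem normalizer_le {Q : Subgroup H} (hwc : IsWeaklyClosedSubgroup p Q) {R : Subgroup H}
    (hR : IsPGroup p R) (hQR : Q ≤ R) : normalizer (R : Set H) ≤ normalizer (Q : Set H) := by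
  intro g hg
  rw [← cj_eq_self_iff] at hg ⊢
  refine eq_of_le hwc hR hQR ?_
  rw [← hg]
  exact cj_mono g hQR

theorem le_normalizer_of_isPGroup {Q : Subgroup H} (hwc : IsWeaklyClosedSubgroup p Q)
    {R : Subgroup H} (hR : IsPGroup p R) (hQR : Q ≤ R) : R ≤ normalizer (Q : Set H) :=
  le_normalizer.trans (normalizer_le hwc hR hQR)

/-- The join of `p`-subgroups, one normalizing the other. -/
theorem isPGroup_sup_of_le_normalizer {Q R : Subgroup H} (hQ : IsPGroup p Q) (hR : IsPGroup p R)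
    (h : R ≤ normalizer (Q : Set H)) : IsPGroup p (Q ⊔ R : Subgroup H) := by
  rw [sup_comm]
  exact hR.to_sup_of_normal_right' hQ h

/-- a `p`-subgroup normalized by `Q` normalizes the weakly closed subgroup `Q` -/
theorem le_normalizer_of_le_normalizer {Q : Subgroup H} (hQ : IsPGroup p Q)
    (hwc : IsWeaklyClosedSubgroup p Q)
    {R : Subgroup H} (hR : IsPGroup p R) (hQR : Q ≤ normalizer (R : Set H)) :
    R ≤ normalizer (Q : Set H) := by
  have h1 : IsPGroup p (R ⊔ Q : Subgroup H) := isPGroup_sup_of_le_normalizer hR hQ hQR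
  exact le_sup_left.trans (le_normalizer_of_isPGroup hwc h1 le_sup_right)

/-- `Q` is weakly closed iff `Q = Q^g` whenever `Q`, `Q^g` normalize each other. -/
theorem iff_commutator {Q : Subgroup H} (hQ : IsPGroup p Q) :
    IsWeaklyClosedSubgroup p Q ↔ ∀ g : H, ⁅Q, cj g Q⁆ ≤ Q ⊓ cj g Q → cj g Q = Q := by
  constructor
  · intro hwc g hg
    have h1 : cj g Q ≤ normalizer (Q : Set H) :=
      le_normalizer_of_commutator_le (hg.trans inf_le_left)
    exact eq_of_le hwc (isPGroup_sup_of_le_normalizer hQ (isPGroup_cj hQ g) h1) le_sup_left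
      le_sup_right
  · intro h
    -- first: `Q` is normal in every `p`-subgroup containing it
    have hn : ∀ R : Subgroup H, IsPGroup p R → Q ≤ R → R ≤ normalizer (Q : Set H) := by
      intro R hR hQR
      by_contra hlt
      have hnil : Group.IsNilpotent R := hR.isNilpotent
      have hnc := @Group.normalizerCondition_of_isNilpotent R _ hnil
      set N := normalizer (Q : Set H) ⊓ R with hN
      have hNR : N < R := by
        refine lt_of_le_of_ne inf_le_right fun h1 => hlt ?_
        rw [← h1]; exact inf_le_left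
      have h2 : N.subgroupOf R < ⊤ := by
        rw [lt_top_iff_ne_top]
        intro h3
        rw [subgroupOf_eq_top] at h3
        exact absurd (lt_of_lt_of_le hNR h3) (lt_irrefl _)
      obtain ⟨x, hx, hxN⟩ := SetLike.exists_of_lt (hnc _ h2)
      have hxR : (x : H) ∈ R := x.2
      have hNR' : ∀ z ∈ N, z ∈ R := fun z hz => hNR.le hz
      have hx' : cj (x : H) N = N := by
        ext y
        rw [mem_cj]
        constructor
        · intro hy
          have hyR : (x : H)⁻¹ * y * x ∈ R := hNR' _ hy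
          have hxi := mem_normalizer_iff.1 hx ⟨(x : H)⁻¹ * y * x, hyR⟩
          have h5 : x * ⟨(x : H)⁻¹ * y * x, hyR⟩ * x⁻¹ ∈ N.subgroupOf R :=
            hxi.1 (mem_subgroupOf.2 hy)
          have h6 := mem_subgroupOf.1 h5
          simpa [mul_assoc] using h6
        · intro hy
          have hyR : y ∈ R := hNR' _ hy
          have hxi := mem_normalizer_iff.1 (inv_mem hx) ⟨y, hyR⟩
          have h5 : x⁻¹ * ⟨y, hyR⟩ * x⁻¹⁻¹ ∈ N.subgroupOf R :=
            hxi.1 (mem_subgroupOf.2 hy)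
          have h6 := mem_subgroupOf.1 h5
          simpa [mul_assoc] using h6
      have hQN : Q ≤ N := le_inf le_normalizer hQR
      have hc1 : cj (x : H) Q ≤ N := by rw [← hx']; exact cj_mono _ hQN
      have hc2 : Q ≤ normalizer ((cj (x : H) Q : Subgroup H) : Set H) := by
        have : cj (x : H) N ≤ normalizer ((cj (x : H) Q : Subgroup H) : Set H) :=
          le_normalizer_cj inf_le_left
        rw [hx'] at this
        exact hQN.trans this
      have h6 : cj (x : H) Q = Q := by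
        refine h x (le_inf ?_ ?_)
        · exact commutator_le_of_le_normalizer (hc1.trans inf_le_left)
        · exact commutator_le_of_le_normalizer' hc2
      exact hxN (by
        rw [mem_subgroupOf]
        exact ⟨cj_eq_self_iff.1 h6, hxR⟩)
    -- second: the same for the normalizers
    have hnn : ∀ R : Subgroup H, IsPGroup p R → Q ≤ R →
        normalizer (R : Set H) ≤ normalizer (Q : Set H) := by
      intro R hR hQR g hg
      rw [← cj_eq_self_iff] at hg ⊢
      have h1 : cj g Q ≤ R := by rw [← hg]; exact cj_mono g hQR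
      have h2 : R ≤ normalizer ((cj g Q : Subgroup H) : Set H) := by
        have := le_normalizer_cj (g := g) (hn R hR hQR)
        rwa [hg] at this
      refine h g (le_inf ?_ ?_)
      · exact commutator_le_of_le_normalizer (h1.trans (hn R hR hQR))
      · exact commutator_le_of_le_normalizer' (hQR.trans h2)
    -- third: Burnside
    refine of_forall_eq hQ fun R hR hQR g hg => ?_
    obtain ⟨T, hT⟩ := hR.exists_le_sylow
    have hQT : Q ≤ T := hQR.trans hT
    have hgT : cj g Q ≤ T := hg.trans hT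
    -- `T` and `cj g T` lie in `N(cj g Q)`
    have h1 : (T : Subgroup H) ≤ normalizer ((cj g Q : Subgroup H) : Set H) := by
      have h2 : Q ≤ cj g⁻¹ (T : Subgroup H) := cj_le_iff.1 hgT
      have h3 := hn _ (isPGroup_cj T.isPGroup' g⁻¹) h2
      have h4 := le_normalizer_cj (g := g) h3
      rwa [cj_cj_inv] at h4
    have h2 : cj g (T : Subgroup H) ≤ normalizer ((cj g Q : Subgroup H) : Set H) :=
      le_normalizer_cj (hn T T.isPGroup' hQT)
    set K := normalizer ((cj g Q : Subgroup H) : Set H) with hK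
    have hsub : (T.subtype h1 : Sylow p K).toSubgroup.map K.subtype = (T : Subgroup H) := by
      rw [Sylow.coe_subtype, Subgroup.map_subgroupOf_eq_of_le h1]
    have h2' : ((g • T : Sylow p H) : Subgroup H) ≤ K := h2
    have hsub' : ((g • T).subtype h2' : Sylow p K).toSubgroup.map K.subtype
        = cj g (T : Subgroup H) := by
      rw [Sylow.coe_subtype, Subgroup.map_subgroupOf_eq_of_le h2']
      rfl
    obtain ⟨k, hk, hkT⟩ := exists_mem_cj_eq ((g • T).subtype h2') (T.subtype h1)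
    rw [hsub, hsub', cj_cj] at hkT
    have h3 : k * g ∈ normalizer (Q : Set H) := hnn T T.isPGroup' hQT (cj_eq_self_iff.1 hkT)
    rw [← cj_eq_self_iff, ← cj_cj] at h3
    have h4 : cj k (cj g Q) = cj g Q := cj_eq_self_iff.2 hk
    rw [← h4, h3]

theorem iff_normalizer {Q : Subgroup H} (hQ : IsPGroup p Q) :
    IsWeaklyClosedSubgroup p Q ↔ ∀ R : Subgroup H, IsPGroup p ↥R → Q ≤ R →
      normalizer (R : Set H) ≤ normalizer (Q : Set H) := by
  refine ⟨fun hwc R hR hQR => normalizer_le hwc hR hQR, fun h => ?_⟩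
  rw [iff_commutator hQ]
  intro g hg
  -- `Q`, `Q^g` normalize each other; Burnside again
  have hn : ∀ R : Subgroup H, IsPGroup p R → Q ≤ R → R ≤ normalizer (Q : Set H) :=
    fun R hR hQR => le_normalizer.trans (h R hR hQR)
  have hg1 : cj g Q ≤ normalizer (Q : Set H) :=
    le_normalizer_of_commutator_le (hg.trans inf_le_left)
  obtain ⟨T, hT⟩ := (isPGroup_sup_of_le_normalizer hQ (isPGroup_cj hQ g) hg1).exists_le_sylow
  have hQT : Q ≤ T := le_sup_left.trans hT
  have hgT : cj g Q ≤ T := le_sup_right.trans hT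
  have h1 : (T : Subgroup H) ≤ normalizer ((cj g Q : Subgroup H) : Set H) := by
    have h2 : Q ≤ cj g⁻¹ (T : Subgroup H) := cj_le_iff.1 hgT
    have h3 := hn _ (isPGroup_cj T.isPGroup' g⁻¹) h2
    have h4 := le_normalizer_cj (g := g) h3
    rwa [cj_cj_inv] at h4
  have h2 : cj g (T : Subgroup H) ≤ normalizer ((cj g Q : Subgroup H) : Set H) :=
    le_normalizer_cj (hn T T.isPGroup' hQT)
  set K := normalizer ((cj g Q : Subgroup H) : Set H) with hK
  have hsub : (T.subtype h1 : Sylow p K).toSubgroup.map K.subtype = (T : Subgroup H) := by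
    rw [Sylow.coe_subtype, Subgroup.map_subgroupOf_eq_of_le h1]
  have h2' : ((g • T : Sylow p H) : Subgroup H) ≤ K := h2
  have hsub' : ((g • T).subtype h2' : Sylow p K).toSubgroup.map K.subtype
      = cj g (T : Subgroup H) := by
    rw [Sylow.coe_subtype, Subgroup.map_subgroupOf_eq_of_le h2']
    rfl
  obtain ⟨k, hk, hkT⟩ := exists_mem_cj_eq ((g • T).subtype h2') (T.subtype h1)
  rw [hsub, hsub', cj_cj] at hkT
  have h3 : k * g ∈ normalizer (Q : Set H) := h T T.isPGroup' hQT (cj_eq_self_iff.1 hkT)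
  rw [← cj_eq_self_iff, ← cj_cj] at h3
  have h4 : cj k (cj g Q) = cj g Q := cj_eq_self_iff.2 hk
  rw [← h4, h3]

end fin

end Cfsg.Agent.H227.Weak
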