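import Cfsg.Agent.H227.Weak2
import Cfsg.Agent.Lib.ThompsonPQ
set_option linter.all false

/-!
# Overgroups of a self-centralizing weakly closed subgroup have characteristic `p`
-/

set_option autoImplicit false
set_option linter.unusedSectionVars false

namespace Cfsg.Agent.H227.Weak

open Subgroup Cfsg
open scoped commutatorElement

variable {H : Type*} [Group H]

section fin

variable [Finite H] {p : ℕ} [Fact p.Prime]

/-- a finite group without nontrivial `p'`-elements is a `p`-group -/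
theorem isPGroup_of_forall {X : Subgroup H}
    (h : ∀ x ∈ X, Nat.Coprime (orderOf x) p → x = 1) : IsPGroup p X := by
  intro x
  obtain ⟨k, hk⟩ := Transfer.Residual.exists_pow_prime_pow_coprime p (x : H)
  refine ⟨k, ?_⟩
  have := h _ (X.pow_mem x.2 _) hk
  exact Subtype.ext (by simpa using this)

/-- a `p'`-element of a `p`-group is trivial -/
theorem eq_one_of_coprime {X : Subgroup H} (hX : IsPGroup p X) {x : H} (hx : x ∈ X)
    (h : Nat.Coprime (orderOf x) p) : x = 1 := by
  obtain ⟨k, hk⟩ := hX ⟨x, hx⟩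
  have h1 : x ^ p ^ k = 1 := by simpa using congrArg Subtype.val hk
  have h2 : orderOf x ∣ p ^ k := orderOf_dvd_of_pow_eq_one h1
  have h3 : Nat.Coprime (orderOf x) (p ^ k) := Nat.Coprime.pow_right _ h
  exact orderOf_eq_one_iff.1 (Nat.eq_one_of_dvd_coprimes h3 dvd_rfl h2)

theorem pCoreOf_le (p : ℕ) (X : Subgroup H) : pCoreOf p X ≤ X := Subgroup.map_subtype_le _

theorem isPGroup_pCoreOf (X : Subgroup H) : IsPGroup p (pCoreOf p X) :=
  (Lib.Cores.pCore_isPGroup p).map _

/-- a normal `p`-subgroup of `X` lies in `O_p(X)` -/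
theorem le_pCoreOf {X E : Subgroup H} (hE : IsPGroup p E) (hEX : E ≤ X)
    (hn : X ≤ normalizer (E : Set H)) : E ≤ pCoreOf p X := by
  have h1 : (E.subgroupOf X).Normal := (normal_subgroupOf_iff_le_normalizer hEX).2 hn
  have h2 : IsPGroup p (E.subgroupOf X) := hE.comap_of_injective _ X.subtype_injective
  have h3 := Lib.Cores.le_pCore h1 h2
  rw [← Subgroup.map_subgroupOf_eq_of_le hEX]
  exact Subgroup.map_mono h3

/-- whatever normalizes `X` normalizes `O_p(X)` -/
theorem normalizer_le_normalizer_pCoreOf (p : ℕ) (X : Subgroup H) :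
    normalizer (X : Set H) ≤ normalizer ((pCoreOf p X : Subgroup H) : Set H) := by
  have : (pCore p X).Characteristic := Lib.Cores.pCore_characteristic p
  intro g hg
  rw [← cj_eq_self_iff] at hg ⊢
  -- the automorphism of `X` induced by `g`
  have key : ∀ g : H, cj g X = X → pCoreOf p X ≤ cj g (pCoreOf p X) := by
    intro g hg
    have hmem : ∀ x : X, g⁻¹ * x * g ∈ X := fun x => by
      rw [← mem_cj, hg]
      exact x.2
    have hmem' : ∀ x : X, g * x * g⁻¹ ∈ X := fun x => by
      have := conj_mem_cj (g := g) x.2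
      rwa [hg] at this
    let e : X ≃* X :=
      { toFun := fun x => ⟨g⁻¹ * x * g, hmem x⟩
        invFun := fun x => ⟨g * x * g⁻¹, hmem' x⟩
        left_inv := fun x => Subtype.ext (by simp [mul_assoc])
        right_inv := fun x => Subtype.ext (by simp [mul_assoc])
        map_mul' := fun x y => Subtype.ext (by simp [mul_assoc]) }
    rintro _ ⟨x, hx, rfl⟩
    rw [mem_cj]
    have h1 : e x ∈ (pCore p X).map e.toMonoidHom := ⟨x, hx, rfl⟩
    rw [characteristic_iff_map_eq.1 this e] at h1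
    exact ⟨e x, h1, rfl⟩
  refine le_antisymm ?_ (key g hg)
  have hg' : cj g⁻¹ X = X := by rw [cj_eq_iff, inv_inv, hg]
  have := cj_mono g (key g⁻¹ hg')
  rwa [cj_cj_inv] at this

theorem normalizer_le_normalizer_centralizer (E : Subgroup H) :
    normalizer (E : Set H) ≤ normalizer ((centralizer (E : Set H) : Subgroup H) : Set H) := by
  intro g hg
  have h2 := cj_eq_self_iff.2 hg
  rw [← cj_eq_self_iff]
  ext z
  rw [mem_cj, mem_centralizer_iff, mem_centralizer_iff]
  constructor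
  · intro hz y hy
    have hy' : g⁻¹ * y * g ∈ E := by rw [← mem_cj, h2]; exact hy
    have := hz _ hy'
    have h3 : g⁻¹ * (y * z) * g = g⁻¹ * (z * y) * g := by
      simpa [mul_assoc] using this
    simpa using h3
  · intro hz y hy
    have hy' : g * y * g⁻¹ ∈ E := by
      have := conj_mem_cj (g := g) hy
      rwa [h2] at this
    have := hz _ hy'
    have h3 : g⁻¹ * (g * y * g⁻¹ * z) * g = g⁻¹ * (z * (g * y * g⁻¹)) * g := by rw [this]
    simpa [mul_assoc] using h3

/-- characteristic `p`, in the form used here -/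
def Ch (p : ℕ) (X : Subgroup H) : Prop :=
  IsPGroup p (X ⊓ centralizer ((pCoreOf p X : Subgroup H) : Set H) : Subgroup H)

theorem ch_of {X E : Subgroup H} (hE : IsPGroup p E) (hEX : E ≤ X)
    (hn : X ≤ normalizer (E : Set H))
    (hc : IsPGroup p (X ⊓ centralizer (E : Set H) : Subgroup H)) : Ch p X :=
  hc.to_le (inf_le_inf_left _ (centralizer_le (le_pCoreOf hE hEX hn)))

theorem pCoreOf_centralizer_iff (X : Subgroup H) :
    centralizer (pCore p X : Set X) ≤ pCore p X ↔ Ch p X := by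
  have hmem : ∀ x : X, x ∈ centralizer (pCore p X : Set X) ↔
      (x : H) ∈ centralizer ((pCoreOf p X : Subgroup H) : Set H) := by
    intro x
    rw [mem_centralizer_iff, mem_centralizer_iff]
    constructor
    · rintro h _ ⟨y, hy, rfl⟩
      exact congrArg Subtype.val (h y hy)
    · intro h y hy
      exact Subtype.ext (h y ⟨y, hy, rfl⟩)
  constructor
  · intro h
    refine (isPGroup_pCoreOf (p := p) X).to_le ?_
    rintro x ⟨hx, hxc⟩
    exact ⟨⟨x, hx⟩, h ((hmem ⟨x, hx⟩).2 hxc), rfl⟩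
  · intro h x hx
    have hn : X ≤ normalizer ((X ⊓ centralizer ((pCoreOf p X : Subgroup H) : Set H) :
        Subgroup H) : Set H) := by
      intro g hg
      have h1 : cj g X = X := cj_eq_self_of_mem hg
      have h2 := normalizer_le_normalizer_pCoreOf p X (le_normalizer hg)
      rw [← cj_eq_self_iff, cj_inf, h1, cj_eq_self_iff.2 (normalizer_le_normalizer_centralizer _ h2)]
    have h1 := le_pCoreOf h inf_le_left hn ⟨x.2, (hmem x).1 hx⟩
    obtain ⟨y, hy, hyx⟩ := h1
    have : y = x := Subtype.ext hyx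
    rwa [← this]

/-- A `p`-group acting: `C_X(U)` has characteristic `p` if `X` has. -/
theorem Ch.inf_centralizer {X U : Subgroup H} (hX : Ch p X) (hU : IsPGroup p U)
    (hUX : U ≤ normalizer (X : Set H)) : Ch p (X ⊓ centralizer (U : Set H)) := by
  set E := pCoreOf p X with hE
  have hEp : IsPGroup p E := isPGroup_pCoreOf X
  have hXE : X ≤ normalizer (E : Set H) :=
    le_normalizer.trans (normalizer_le_normalizer_pCoreOf p X)
  have hUE : U ≤ normalizer (E : Set H) := hUX.trans (normalizer_le_normalizer_pCoreOf p X)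
  refine ch_of (E := E ⊓ centralizer (U : Set H)) (hEp.to_le inf_le_left)
    (inf_le_inf_right _ (pCoreOf_le p X)) ?_ ?_
  · rintro g ⟨hgX, hgU⟩
    have h1 : cj g E = E := cj_eq_self_iff.2 (hXE hgX)
    rw [← cj_eq_self_iff, cj_inf, h1, cj_eq_self_of_mem hgU]
  · refine isPGroup_of_forall fun d hd hdc => ?_
    obtain ⟨⟨hdX, hdU⟩, hdE⟩ := hd
    have hD : zpowers d ≤ centralizer (E : Set H) := by
      refine Lib.ThompsonPQ.thompson_p_times_q p U (zpowers d) E hU ?_ hEp ?_ hUE ?_ ?_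
      · rwa [Nat.card_zpowers]
      · rw [le_centralizer_iff, zpowers_le]
        exact hdU
      · rw [zpowers_le]
        exact hXE hdX
      · rw [le_centralizer_iff, zpowers_le]
        exact hdE
    exact eq_one_of_coprime hX ⟨hdX, hD (mem_zpowers d)⟩ hdc

/-- `U ≤ P` `p`-groups: if `C_H(U)` has characteristic `p`, so has `C_H(P)`. -/
theorem ch_centralizer_of_le (P : Subgroup H) (hP : IsPGroup p P) :
    ∀ (n : ℕ) (U : Subgroup H), U ≤ P → Nat.card P - Nat.card U ≤ n →
      Ch p (centralizer (U : Set H)) → Ch p (centralizer (P : Set H)) := by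
  intro n
  induction n with
  | zero =>
    intro U hU hn hc
    have h1 : U = P := Subgroup.eq_of_le_of_card_ge hU (by omega)
    rwa [← h1]
  | succ n ih =>
    intro U hU hn hc
    rcases eq_or_ne U P with rfl | hne
    · exact hc
    have hnil : Group.IsNilpotent P := hP.isNilpotent
    have hnc := @Group.normalizerCondition_of_isNilpotent P _ hnil
    have hlt : U.subgroupOf P < ⊤ := by
      rw [lt_top_iff_ne_top]
      intro h
      rw [subgroupOf_eq_top] at h
      exact hne (le_antisymm hU h)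
    obtain ⟨x, hx, hxU⟩ := SetLike.exists_of_lt (hnc _ hlt)
    have hxn : (x : H) ∈ normalizer (U : Set H) := by
      rw [mem_normalizer_iff]
      intro u
      constructor
      · intro hu
        have := (mem_normalizer_iff.1 hx ⟨u, hU hu⟩).1 (mem_subgroupOf.2 hu)
        exact mem_subgroupOf.1 this
      · intro hu
        have huP : u ∈ P := by
          have := P.mul_mem (P.mul_mem (P.inv_mem x.2) (hU hu)) x.2
          simpa [mul_assoc] using this
        have := (mem_normalizer_iff.1 hx ⟨u, huP⟩).2 (mem_subgroupOf.2 hu)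
        exact mem_subgroupOf.1 this
    set V := U ⊔ zpowers (x : H) with hV
    have hVP : V ≤ P := sup_le hU (by rw [zpowers_le]; exact x.2)
    have hVn : V ≤ normalizer (U : Set H) :=
      sup_le le_normalizer (by rw [zpowers_le]; exact hxn)
    have hUV : U < V := by
      refine lt_of_le_of_ne le_sup_left fun h => hxU ?_
      rw [mem_subgroupOf, h]
      exact mem_sup_right (mem_zpowers _)
    have hcard : Nat.card U < Nat.card V := by
      refine lt_of_le_of_ne (Subgroup.card_le_of_le hUV.le) fun h => ?_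
      exact hUV.ne (Subgroup.eq_of_le_of_card_ge hUV.le h.ge)
    refine ih V hVP (by omega) ?_
    have h1 : V ≤ normalizer ((centralizer (U : Set H) : Subgroup H) : Set H) :=
      hVn.trans (normalizer_le_normalizer_centralizer U)
    have h2 := hc.inf_centralizer (hP.to_le hVP) h1
    have h3 : centralizer (U : Set H) ⊓ centralizer (V : Set H) = centralizer (V : Set H) :=
      inf_eq_right.2 (centralizer_le hUV.le)
    rwa [h3] at h2

/-- **The main point**: if `C_H(O_p(L))` has characteristic `p` then `[Q, C_H(O_p(L))] ≤ Q ∩ O_p(L)`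
for a weakly closed `Q ≤ L`. -/
theorem commutator_le_inf_of_ch {Q : Subgroup H} (hQ : IsPGroup p Q)
    (hwc : IsWeaklyClosedSubgroup p Q) {L : Subgroup H} (hQL : Q ≤ L)
    (hC : Ch p (centralizer ((pCoreOf p L : Subgroup H) : Set H))) :
    ⁅Q, centralizer ((pCoreOf p L : Subgroup H) : Set H)⁆ ≤ Q ⊓ pCoreOf p L := by
  set P := pCoreOf p L with hP
  set C := centralizer (P : Set H) with hCdef
  set E := pCoreOf p C with hE
  have hLP : L ≤ normalizer (P : Set H) :=
    le_normalizer.trans (normalizer_le_normalizer_pCoreOf p L)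
  have hLC : L ≤ normalizer (C : Set H) := hLP.trans (normalizer_le_normalizer_centralizer P)
  have hLE : L ≤ normalizer (E : Set H) := hLC.trans (normalizer_le_normalizer_pCoreOf p C)
  have hCE : C ≤ normalizer (E : Set H) :=
    le_normalizer.trans (normalizer_le_normalizer_pCoreOf p C)
  have hEC : E ≤ C := pCoreOf_le p C
  have hEp : IsPGroup p E := isPGroup_pCoreOf C
  have hEQ : E ≤ normalizer (Q : Set H) :=
    le_normalizer_of_le_normalizer hQ hwc hEp (hQL.trans hLE)
  -- `L ∩ E ≤ P`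
  have hLEP : L ⊓ E ≤ P := by
    refine le_pCoreOf (hEp.to_le inf_le_right) inf_le_left ?_
    intro g hg
    rw [← cj_eq_self_iff, cj_inf, cj_eq_self_of_mem hg, cj_eq_self_iff.2 (hLE hg)]
  set W := E ⊓ centralizer (C : Set H) with hW
  have hQEW : Q ⊓ E ≤ W := by
    rintro x ⟨hxQ, hxE⟩
    refine ⟨hxE, ?_⟩
    have h1 : x ∈ P := hLEP ⟨hQL hxQ, hxE⟩
    intro c hc
    exact (hc x h1).symm
  -- elements of `[C, Q]` act trivially on `E / W`
  have hact : ⁅C, Q⁆ ≤ normalizer (E : Set H) := by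
    refine (commutator_le_of_le_normalizer (hQL.trans hLC)).trans hCE
  have hCQC : ⁅C, Q⁆ ≤ C := commutator_le_of_le_normalizer (hQL.trans hLC)
  have hQW : ∀ q ∈ Q, ∀ e ∈ E, q * e * q⁻¹ * e⁻¹ ∈ W := by
    intro q hq e he
    refine hQEW ⟨?_, ?_⟩
    · have h1 : e * q⁻¹ * e⁻¹ ∈ Q := (mem_normalizer_iff.1 (hEQ he) _).1 (inv_mem hq)
      have h2 : q * e * q⁻¹ * e⁻¹ = q * (e * q⁻¹ * e⁻¹) := by group
      rw [h2]
      exact Q.mul_mem hq h1
    · exact E.mul_mem ((mem_normalizer_iff.1 (hLE (hQL hq)) _).1 he) (E.inv_mem he)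
  have hQWn : ∀ q ∈ Q, ∀ w ∈ W, q * w * q⁻¹ ∈ W := by
    intro q hq w hw
    have h1 := W.mul_mem (hQW q hq w hw.1) hw
    simpa using h1
  have hCW : ∀ c ∈ C, ∀ w ∈ W, c * w * c⁻¹ = w := by
    intro c hc w hw
    have h1 : c * w = w * c := hw.2 c hc
    rw [h1, mul_inv_cancel_right]
  let S : Subgroup H :=
    { carrier := {x | x ∈ C ∧ ∀ e ∈ E, x * e * x⁻¹ * e⁻¹ ∈ W}
      one_mem' := ⟨one_mem _, fun e _ => by simp⟩
      mul_mem' := by
        rintro x y ⟨hx, hx'⟩ ⟨hy, hy'⟩
        refine ⟨mul_mem hx hy, fun e he => ?_⟩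
        have h1 := hy' e he
        have h2 := hx' e he
        have h3 : x * y * e * (x * y)⁻¹ * e⁻¹
            = (x * (y * e * y⁻¹ * e⁻¹) * x⁻¹) * (x * e * x⁻¹ * e⁻¹) := by group
        rw [h3, hCW x hx _ h1]
        exact W.mul_mem h1 h2
      inv_mem' := by
        rintro x ⟨hx, hx'⟩
        refine ⟨inv_mem hx, fun e he => ?_⟩
        have h1 := hx' e he
        have h2 : x⁻¹ * e * x⁻¹⁻¹ * e⁻¹ = x⁻¹ * (x * e * x⁻¹ * e⁻¹)⁻¹ * x⁻¹⁻¹ := by group
        rw [h2, hCW x⁻¹ (inv_mem hx) _ (W.inv_mem h1)]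
        exact W.inv_mem h1 }
  have hS : ⁅C, Q⁆ ≤ S := by
    rw [commutator_le]
    intro c hc q hq
    refine ⟨hCQC (commutator_mem_commutator hc hq), fun e he => ?_⟩
    -- `q⁻¹ e q = w₁ e`
    have h1 : q⁻¹ * e * q⁻¹⁻¹ * e⁻¹ ∈ W := hQW q⁻¹ (inv_mem hq) e he
    set w₁ := q⁻¹ * e * q⁻¹⁻¹ * e⁻¹ with hw₁
    have hce : c⁻¹ * e * c ∈ E := by
      have := (mem_normalizer_iff.1 (hCE (inv_mem hc)) e).1 he
      simpa using this
    have h2 : q * (c⁻¹ * e * c) * q⁻¹ * (c⁻¹ * e * c)⁻¹ ∈ W := hQW q hq _ hce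
    set w₂ := q * (c⁻¹ * e * c) * q⁻¹ * (c⁻¹ * e * c)⁻¹ with hw₂
    have h3 : q * w₁ * q⁻¹ ∈ W := hQWn q hq _ h1
    have e1 : q⁻¹ * e * q = w₁ * e := by rw [hw₁]; group
    have e2 : q * (c⁻¹ * e * c) * q⁻¹ = w₂ * (c⁻¹ * e * c) := by rw [hw₂]; group
    have e3 : c⁻¹ * w₁ * c = w₁ := by
      have := hCW c⁻¹ (inv_mem hc) _ h1
      simpa using this
    have e4 : ⁅c, q⁆ * e * ⁅c, q⁆⁻¹ * e⁻¹ = c * ((q * w₁ * q⁻¹) * w₂) * c⁻¹ := by
      have a1 : ⁅c, q⁆ * e * ⁅c, q⁆⁻¹ * e⁻¹
          = c * (q * (c⁻¹ * (q⁻¹ * e * q) * c) * q⁻¹) * c⁻¹ * e⁻¹ := by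
        rw [commutatorElement_def]; group
      have a2 : c⁻¹ * (w₁ * e) * c = w₁ * (c⁻¹ * e * c) := by
        calc c⁻¹ * (w₁ * e) * c = (c⁻¹ * w₁ * c) * (c⁻¹ * e * c) := by group
          _ = _ := by rw [e3]
      have a3 : q * (w₁ * (c⁻¹ * e * c)) * q⁻¹ = (q * w₁ * q⁻¹) * (w₂ * (c⁻¹ * e * c)) := by
        calc q * (w₁ * (c⁻¹ * e * c)) * q⁻¹
            = (q * w₁ * q⁻¹) * (q * (c⁻¹ * e * c) * q⁻¹) := by group
          _ = _ := by rw [e2]
      rw [a1, e1, a2, a3]
      group
    rw [e4, hCW c hc _ (W.mul_mem h3 h2)]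
    exact W.mul_mem h3 h2
  -- `[C, Q]` is a `p`-group
  have hCQp : IsPGroup p (⁅C, Q⁆ : Subgroup H) := by
    refine isPGroup_of_forall fun d hd hdc => ?_
    obtain ⟨hdC, hdE⟩ := hS hd
    refine eq_one_of_coprime hC ⟨hdC, ?_⟩ hdc
    intro e he
    have h1 := hdE e he
    set w := d * e * d⁻¹ * e⁻¹ with hw
    have h2 : d * e * d⁻¹ = w * e := by rw [hw]; group
    have h3 : ∀ n : ℕ, d ^ n * e * (d ^ n)⁻¹ = w ^ n * e := by
      intro n
      induction n with
      | zero => simp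
      | succ n ih =>
        have h4 : d * w ^ n * d⁻¹ = w ^ n := hCW d hdC _ (W.pow_mem h1 n)
        calc d ^ (n + 1) * e * (d ^ (n + 1))⁻¹ = d * (d ^ n * e * (d ^ n)⁻¹) * d⁻¹ := by
              rw [pow_succ']; group
          _ = d * (w ^ n * e) * d⁻¹ := by rw [ih]
          _ = (d * w ^ n * d⁻¹) * (d * e * d⁻¹) := by group
          _ = w ^ n * (w * e) := by rw [h4, h2]
          _ = w ^ (n + 1) * e := by rw [pow_succ]; group
    have h5 := h3 (orderOf d)
    rw [pow_orderOf_eq_one] at h5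
    have h6 : w ^ orderOf d = 1 := by
      have : e = w ^ orderOf d * e := by simpa using h5
      exact (mul_eq_right.1 this.symm)
    have h7 : w = 1 := by
      refine eq_one_of_coprime (hEp.to_le inf_le_left : IsPGroup p W) h1 ?_
      exact Nat.Coprime.coprime_dvd_left (orderOf_dvd_of_pow_eq_one h6) hdc
    rw [h7, one_mul] at h2
    have : d * e = e * d := by
      calc d * e = (d * e * d⁻¹) * d := by group
        _ = e * d := by rw [h2]
    exact this.symm
  have hCQE : ⁅C, Q⁆ ≤ E := le_pCoreOf hCQp hCQC (normalizer_commutator_ge_left C Q)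
  -- `C` normalizes `E Q`
  have hCEQ : C ≤ normalizer ((E ⊔ Q : Subgroup H) : Set H) := by
    apply le_normalizer_of_commutator_le
    rw [commutator_comm, commutator_le]
    intro c hc x hx
    obtain ⟨e, he, q, hq, rfl⟩ := exists_mul_of_mem_sup (hQL.trans hLE) hx
    have h1 : ⁅c, e⁆ ∈ E := by
      rw [commutatorElement_def]
      exact E.mul_mem ((mem_normalizer_iff.1 (hCE hc) e).1 he) (E.inv_mem he)
    have h2 : ⁅c, q⁆ ∈ E := hCQE (commutator_mem_commutator hc hq)
    have h3 : ⁅c, e * q⁆ = ⁅c, e⁆ * (e * ⁅c, q⁆ * e⁻¹) := by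
      simp only [commutatorElement_def]; group
    rw [h3]
    exact mem_sup_left (E.mul_mem h1 (E.mul_mem (E.mul_mem he h2) (E.inv_mem he)))
  have hEQp : IsPGroup p (E ⊔ Q : Subgroup H) := isPGroup_sup_of_le_normalizer hEp hQ
    (hQL.trans hLE)
  have hCQn : C ≤ normalizer (Q : Set H) := hCEQ.trans (normalizer_le hwc hEQp le_sup_right)
  have hfin : ⁅Q, C⁆ ≤ Q := commutator_le_of_le_normalizer hCQn
  refine le_inf hfin ?_
  have h8 : ⁅Q, C⁆ ≤ E := by rw [commutator_comm]; exact hCQE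
  exact (le_inf (hfin.trans hQL) h8).trans hLEP

/-- if `[Q, C] ≤ Q ∩ P` with `C = C_H(P)` and `C_H(Q) ≤ Q` then `C` is a `p`-group -/
theorem isPGroup_centralizer_of {Q P : Subgroup H} (hQ : IsPGroup p Q)
    (hCQ : centralizer (Q : Set H) ≤ Q)
    (h : ⁅Q, centralizer (P : Set H)⁆ ≤ Q ⊓ P) : IsPGroup p (centralizer (P : Set H)) := by
  refine isPGroup_of_forall fun d hd hdc => ?_
  refine eq_one_of_coprime hQ (hCQ ?_) hdc
  intro q hq
  have h1 : ⁅q, d⁆ ∈ Q ⊓ P := h (commutator_mem_commutator hq hd)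
  set w := ⁅q, d⁆ with hw
  -- `q d q⁻¹ = w d`, `w` commutes with `d`
  have h2 : q * d * q⁻¹ = w * d := by rw [hw, commutatorElement_def]; group
  have hcomm : Commute w d := hd w h1.2
  have h3 : (w * d) ^ orderOf d = 1 := by
    rw [← h2]
    have : (q * d * q⁻¹) ^ orderOf d = q * d ^ orderOf d * q⁻¹ := conj_pow
    rw [this, pow_orderOf_eq_one]; group
  rw [hcomm.mul_pow, pow_orderOf_eq_one, mul_one] at h3
  have h4 : w = 1 := eq_one_of_coprime hQ h1.1
    (Nat.Coprime.coprime_dvd_left (orderOf_dvd_of_pow_eq_one h3) hdc)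
  have h5 : q * d * q⁻¹ = d := by rw [h2, h4, one_mul]
  calc q * d = (q * d * q⁻¹) * q := by group
    _ = d * q := by rw [h5]

/-- if `C_H(O_p(L))` is a `p`-group then `L` has characteristic `p` -/
theorem ch_of_isPGroup_centralizer {L : Subgroup H}
    (h : IsPGroup p (centralizer ((pCoreOf p L : Subgroup H) : Set H))) : Ch p L :=
  h.to_le inf_le_right

end fin

end Cfsg.Agent.H227.Weak
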