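import Cfsg.Agent.H227.YMin
import Cfsg.Agent.Lib.FrattiniPGroup
set_option linter.all false

/-!
# `Y`-minimal groups of characteristic `p` with `O_p(L) ≤ N_L(Y)`
-/

set_option autoImplicit false
set_option linter.unusedSectionVars false

namespace Cfsg.Agent.H227.YMin

open Subgroup Cfsg
open scoped commutatorElement
open Cfsg.Agent.H227.Weak (cj mem_cj cj_cj cj_eq_self_iff cj_le_iff cj_mono cj_cj_inv cj_inv_cj
  conj_mem_cj cj_eq_iff cj_inj cj_normal cj_sup cj_inf cj_eq_self_of_mem cj_commutator cj_one)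

theorem commutators {L : Type*} [Group L] [Finite L] {p : ℕ} [Fact p.Prime]
    (hchar : centralizer (pCore p L : Set L) ≤ pCore p L) (L₀ : Subgroup L) (hL₀ : IsCoatom L₀)
    (Y : Subgroup L) (hYL₀ : Y ≤ L₀) (hYel : IsElementaryAbelian p Y) (hmin : IsMinimalOver Y)
    (hOY : pCore p L ≤ normalizer (Y : Set L)) (A : Subgroup L)
    (hA : A = normalClosure (((pCore p L ⊓ Y : Subgroup L)) : Set L)) (g : L) (hg : g ∉ L₀) :
    (frattini ↥A).map A.subtype = ⁅A, A⁆ ∧ ⁅A, A⁆ = ⁅A ⊓ Y, A⁆ ∧
      ⁅A ⊓ Y, A⁆ = ⁅A ⊓ Y, A ⊓ Y.map (MulAut.conj g).toMonoidHom⁆ ∧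
      ⁅A ⊓ Y, A⁆ ≤ Y ⊓ center L ∧ Y ⊓ Y.map (MulAut.conj g).toMonoidHom = Y ⊓ center L ∧
      (A ⊓ Y) ⊓ (A ⊓ Y.map (MulAut.conj g).toMonoidHom) = Y ⊓ center L ∧
      A ⊓ center L = Y ⊓ center L := by
  change (frattini ↥A).map A.subtype = ⁅A, A⁆ ∧ ⁅A, A⁆ = ⁅A ⊓ Y, A⁆ ∧
      ⁅A ⊓ Y, A⁆ = ⁅A ⊓ Y, A ⊓ cj g Y⁆ ∧
      ⁅A ⊓ Y, A⁆ ≤ Y ⊓ center L ∧ Y ⊓ cj g Y = Y ⊓ center L ∧
      (A ⊓ Y) ⊓ (A ⊓ cj g Y) = Y ⊓ center L ∧
      A ⊓ center L = Y ⊓ center L
  have hPn : (pCore p L).Normal := Lib.Cores.pCore_normal p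
  have hPp : IsPGroup p (pCore p L) := Lib.Cores.pCore_isPGroup p
  set P := pCore p L with hP
  have hYc : IsMulCommutative Y := hYel.1
  have hZ : Y ⊓ cj g Y = Y ⊓ center L := inf_cj_eq hL₀ hYL₀ hmin hg hYc
  have hZP : center L ≤ P := by
    refine le_trans ?_ hchar
    intro z hz
    rw [mem_centralizer_iff]
    intro x _
    exact mem_center_iff.1 hz x
  have hOYg : P ≤ normalizer ((cj g Y : Subgroup L) : Set L) := by
    have := Weak.le_normalizer_cj (g := g) hOY
    rwa [cj_normal g P] at this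
  set B := P ⊓ Y with hB
  set C := P ⊓ cj g Y with hC
  have hCB : C = cj g B := by rw [hC, hB, cj_inf, cj_normal g P]
  have hCNB : C ≤ normalizer (B : Set L) := by
    intro x hx
    rw [← cj_eq_self_iff, hB, cj_inf, cj_normal x P, cj_eq_self_iff.2 (hOY (mem_inf.1 hx).1)]
  have hPY : ⁅P, Y⁆ ≤ B :=
    le_inf (commutator_le_left _ _) (Weak.commutator_le_of_le_normalizer' hOY)
  have hPYg : ⁅P, cj g Y⁆ ≤ C :=
    le_inf (commutator_le_left _ _) (Weak.commutator_le_of_le_normalizer' hOYg)
  have hBC : (B ⊔ C).Normal := by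
    rw [← normalizer_eq_top_iff, eq_top_iff, ← sup_cj_eq_top hL₀ hYL₀ hmin hg]
    refine sup_le ?_ ?_
    · apply Weak.le_normalizer_of_commutator_le
      exact (commutator_mono (sup_le inf_le_left inf_le_left) le_rfl).trans
        (hPY.trans le_sup_left)
    · apply Weak.le_normalizer_of_commutator_le
      exact (commutator_mono (sup_le inf_le_left inf_le_left) le_rfl).trans
        (hPYg.trans le_sup_right)
  have hAn : A.Normal := by rw [hA]; exact normalClosure_normal
  have hBA : B ≤ A := by rw [hA]; exact le_normalClosure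
  have hCA : C ≤ A := by
    rw [hCB, ← cj_normal g A]
    exact cj_mono g hBA
  have hABC : A = B ⊔ C := by
    apply le_antisymm
    · rw [hA]; exact normalClosure_le_normal (le_sup_left : B ≤ B ⊔ C)
    · exact sup_le hBA hCA
  have hAP : A ≤ P := by rw [hABC]; exact sup_le inf_le_left inf_le_left
  have hAY : A ⊓ Y = B :=
    le_antisymm (inf_le_inf_right _ hAP) (le_inf hBA inf_le_right)
  have hAYg : A ⊓ cj g Y = C :=
    le_antisymm (inf_le_inf_right _ hAP) (le_inf hCA inf_le_right)
  rw [hAY, hAYg]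
  have hD : ⁅B, C⁆ ≤ Y ⊓ center L := by
    rw [← hZ]
    refine le_inf ?_ ?_
    · rw [commutator_comm]
      exact (commutator_mono inf_le_left inf_le_right).trans (hPY.trans inf_le_right)
    · exact (commutator_mono inf_le_left inf_le_right).trans (hPYg.trans inf_le_right)
  have hDn : (⁅B, C⁆ : Subgroup L).Normal := by
    constructor
    intro x hx y
    have : y * x * y⁻¹ = x := by
      rw [mem_center_iff.1 (hD hx).2 y, mul_inv_cancel_right]
    rw [this]
    exact hx
  have hBab : ⁅B, B⁆ = ⊥ := by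
    rw [eq_bot_iff, commutator_le]
    intro x hx y hy
    rw [mem_bot, commutatorElement_eq_one_iff_mul_comm]
    exact congrArg Subtype.val (hYc.is_comm.comm (⟨x, hx.2⟩ : Y) ⟨y, hy.2⟩)
  have hCab : ⁅C, C⁆ = ⊥ := by rw [hCB, ← cj_commutator, hBab]; exact Subgroup.map_bot _
  have hAA : ⁅A, A⁆ ≤ ⁅B, C⁆ := by
    rw [hABC, Lib.Cores.sup_commutator_le_iff, Lib.Cores.commutator_sup_le_iff,
      Lib.Cores.commutator_sup_le_iff, hBab, hCab]
    exact ⟨⟨bot_le, le_rfl⟩, ⟨commutator_comm_le _ _, bot_le⟩⟩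
  have hBA' : ⁅B, A⁆ ≤ ⁅A, A⁆ := commutator_mono hBA le_rfl
  have hBC' : ⁅B, C⁆ ≤ ⁅B, A⁆ := commutator_mono le_rfl hCA
  refine ⟨?_, le_antisymm (hAA.trans hBC') hBA', le_antisymm (hBA'.trans hAA) hBC',
    (hBA'.trans hAA).trans hD, hZ, ?_, ?_⟩
  · -- the Frattini subgroup
    have hAp : IsPGroup p A := hPp.to_le hAP
    have h1 : frattini ↥A = _root_.commutator A := by
      apply le_antisymm
      · refine Lib.FrattiniPGroup.frattini_le (p := p) _ (fun x y => ?_) (fun x => ?_)
        · exact commutator_mem_commutator (mem_top _) (mem_top _)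
        · have hx : (x : L) ∈ B ⊔ C := by rw [← hABC]; exact x.2
          obtain ⟨b, hb, c, hc, hbc⟩ := Weak.exists_mul_of_mem_sup hCNB hx
          · have hb' : b ^ p = 1 := hYel.2 b hb.2
            have hc' : c ^ p = 1 := by
              have h2 : g⁻¹ * c * g ∈ Y := mem_cj.1 hc.2
              have h3 := hYel.2 _ h2
              have h4 : (g⁻¹ * c * g) ^ p = g⁻¹ * c ^ p * g := by
                have := conj_pow (i := p) (a := g⁻¹) (b := c)
                simpa using this
              rw [h4] at h3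
              have h5 : c ^ p = g * (g⁻¹ * c ^ p * g) * g⁻¹ := by group
              rw [h5, h3]; group
            have h6 : Abelianization.of x = Abelianization.of (⟨b, hBA hb⟩ : A) *
                Abelianization.of (⟨c, hCA hc⟩ : A) := by
              rw [← map_mul]
              congr 1
              exact Subtype.ext hbc
            have h7 : Abelianization.of (x ^ p) = 1 := by
              rw [map_pow, h6, mul_pow, ← map_pow, ← map_pow]
              have h8 : (⟨b, hBA hb⟩ : A) ^ p = 1 := Subtype.ext (by simpa using hb')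
              have h9 : (⟨c, hCA hc⟩ : A) ^ p = 1 := Subtype.ext (by simpa using hc')
              rw [h8, h9]; simp
            rw [← Abelianization.ker_of]
            exact h7
      · exact Lib.FrattiniPGroup.commutator_le_frattini hAp
    rw [h1, map_subtype_commutator]
  · apply le_antisymm
    · rw [← hZ]
      exact inf_le_inf inf_le_right inf_le_right
    · have h1 : Y ⊓ center L ≤ P := inf_le_right.trans hZP
      exact le_inf (le_inf h1 inf_le_left)
        (le_inf h1 (hZ ▸ (inf_le_right : Y ⊓ cj g Y ≤ cj g Y)))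
  · apply le_antisymm
    · intro a ha
      obtain ⟨haA, haZ⟩ := mem_inf.1 ha
      refine mem_inf.2 ⟨?_, haZ⟩
      have hx : a ∈ B ⊔ C := by rw [← hABC]; exact haA
      obtain ⟨b, hb, c, hc, hbc⟩ := Weak.exists_mul_of_mem_sup hCNB hx
      · -- `c = b⁻¹ a` is centralized by `Y` and by `Y^g`
        have hc1 : c ∈ Y ⊓ cj g Y := by
          have h1 : Y ⊔ cj g Y ≤ centralizer ({c} : Set L) := by
            refine sup_le ?_ ?_
            · intro y hy
              rw [mem_centralizer_iff]
              intro z hz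
              rw [Set.mem_singleton_iff.1 hz]
              have h2 : c = b⁻¹ * a := by rw [hbc]; group
              have h3 : y * b = b * y :=
                congrArg Subtype.val (hYc.is_comm.comm (⟨y, hy⟩ : Y) ⟨b, hb.2⟩)
              have h4 : y * a = a * y := mem_center_iff.1 haZ y
              have h5 : b⁻¹ * y = y * b⁻¹ := by
                rw [inv_mul_eq_iff_eq_mul, ← mul_assoc, ← h3, mul_inv_cancel_right]
              rw [h2, mul_assoc, ← h4, ← mul_assoc, h5, mul_assoc]
            · intro y hy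
              rw [mem_centralizer_iff]
              intro z hz
              rw [Set.mem_singleton_iff.1 hz]
              have hc2 : c ∈ cj g Y := (mem_inf.1 hc).2
              rw [mem_cj] at hc2 hy
              have h2 := congrArg Subtype.val (hYc.is_comm.comm (⟨_, hc2⟩ : Y) ⟨_, hy⟩)
              have h3 : g⁻¹ * (c * y) * g = g⁻¹ * (y * c) * g := by
                simpa [mul_assoc] using h2
              simpa using h3
          rw [sup_cj_eq_top hL₀ hYL₀ hmin hg] at h1
          have h2 : c ∈ center L := by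
            rw [mem_center_iff]
            intro y
            exact ((mem_centralizer_iff.1 (h1 (mem_top y))) c rfl).symm
          refine mem_inf.2 ⟨?_, hc.2⟩
          have h3 : g⁻¹ * c * g = c := by
            rw [mul_assoc, ← mem_center_iff.1 h2 g, inv_mul_cancel_left]
          have h4 := mem_cj.1 hc.2
          rwa [h3] at h4
        rw [hbc]
        exact Y.mul_mem hb.2 (mem_inf.1 hc1).1
    · exact le_inf ((le_inf (inf_le_right.trans hZP) inf_le_left).trans hBA) inf_le_right

end Cfsg.Agent.H227.YMin
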